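import Mathlib
import Cfsg.Agent.Lib.ThreeTransp.Quasigroup

/-!
Machine-written certificate: a symmetric distributive idempotent quasigroup generated by four
elements has at most 81 elements.  The lemma `e<i>_<g>` says that the reflection in generator `g`
maps the `i`-th point to the point recorded in the table.  Written by helper88.
-/

set_option autoImplicit false
set_option maxRecDepth 8000

namespace Cfsg.Agent.Lib.ThreeTransp.QG.FreeFour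

variable {α : Type*} (S : QG α)

theorem e0_0 : S.op (S.f 0) (S.pt 0 []) = (S.pt 0 []) := 
  S.idem _
theorem e1_1 : S.op (S.f 1) (S.pt 1 []) = (S.pt 1 []) := 
  S.idem _
theorem e2_2 : S.op (S.f 2) (S.pt 2 []) = (S.pt 2 []) := 
  S.idem _
theorem e3_3 : S.op (S.f 3) (S.pt 3 []) = (S.pt 3 []) := 
  S.idem _
theorem e0_1 : S.op (S.f 1) (S.pt 0 []) = (S.pt 0 [1]) := 
  rfl
theorem e4_1 : S.op (S.f 1) (S.pt 0 [1]) = (S.pt 0 []) := 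
  S.flip (e0_1 S)
theorem e0_2 : S.op (S.f 2) (S.pt 0 []) = (S.pt 0 [2]) := 
  rfl
theorem e5_2 : S.op (S.f 2) (S.pt 0 [2]) = (S.pt 0 []) := 
  S.flip (e0_2 S)
theorem e0_3 : S.op (S.f 3) (S.pt 0 []) = (S.pt 0 [3]) := 
  rfl
theorem e6_3 : S.op (S.f 3) (S.pt 0 [3]) = (S.pt 0 []) := 
  S.flip (e0_3 S)
theorem e1_2 : S.op (S.f 2) (S.pt 1 []) = (S.pt 1 [2]) := 
  rfl
theorem e7_2 : S.op (S.f 2) (S.pt 1 [2]) = (S.pt 1 []) := 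
  S.flip (e1_2 S)
theorem e1_3 : S.op (S.f 3) (S.pt 1 []) = (S.pt 1 [3]) := 
  rfl
theorem e8_3 : S.op (S.f 3) (S.pt 1 [3]) = (S.pt 1 []) := 
  S.flip (e1_3 S)
theorem e2_3 : S.op (S.f 3) (S.pt 2 []) = (S.pt 2 [3]) := 
  rfl
theorem e9_3 : S.op (S.f 3) (S.pt 2 [3]) = (S.pt 2 []) := 
  S.flip (e2_3 S)
theorem e4_2 : S.op (S.f 2) (S.pt 0 [1]) = (S.pt 0 [1, 2]) := 
  rfl
theorem e10_2 : S.op (S.f 2) (S.pt 0 [1, 2]) = (S.pt 0 [1]) := 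
  S.flip (e4_2 S)
theorem e4_3 : S.op (S.f 3) (S.pt 0 [1]) = (S.pt 0 [1, 3]) := 
  rfl
theorem e11_3 : S.op (S.f 3) (S.pt 0 [1, 3]) = (S.pt 0 [1]) := 
  S.flip (e4_3 S)
theorem e5_1 : S.op (S.f 1) (S.pt 0 [2]) = (S.pt 0 [2, 1]) := 
  rfl
theorem e12_1 : S.op (S.f 1) (S.pt 0 [2, 1]) = (S.pt 0 [2]) := 
  S.flip (e5_1 S)
theorem e5_3 : S.op (S.f 3) (S.pt 0 [2]) = (S.pt 0 [2, 3]) := 
  rfl
theorem e13_3 : S.op (S.f 3) (S.pt 0 [2, 3]) = (S.pt 0 [2]) := 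
  S.flip (e5_3 S)
theorem e6_1 : S.op (S.f 1) (S.pt 0 [3]) = (S.pt 0 [3, 1]) := 
  rfl
theorem e14_1 : S.op (S.f 1) (S.pt 0 [3, 1]) = (S.pt 0 [3]) := 
  S.flip (e6_1 S)
theorem e6_2 : S.op (S.f 2) (S.pt 0 [3]) = (S.pt 0 [3, 2]) := 
  rfl
theorem e15_2 : S.op (S.f 2) (S.pt 0 [3, 2]) = (S.pt 0 [3]) := 
  S.flip (e6_2 S)
theorem e7_0 : S.op (S.f 0) (S.pt 1 [2]) = (S.pt 1 [2, 0]) := 
  rfl
theorem e16_0 : S.op (S.f 0) (S.pt 1 [2, 0]) = (S.pt 1 [2]) := 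
  S.flip (e7_0 S)
theorem e7_3 : S.op (S.f 3) (S.pt 1 [2]) = (S.pt 1 [2, 3]) := 
  rfl
theorem e17_3 : S.op (S.f 3) (S.pt 1 [2, 3]) = (S.pt 1 [2]) := 
  S.flip (e7_3 S)
theorem e8_0 : S.op (S.f 0) (S.pt 1 [3]) = (S.pt 1 [3, 0]) := 
  rfl
theorem e18_0 : S.op (S.f 0) (S.pt 1 [3, 0]) = (S.pt 1 [3]) := 
  S.flip (e8_0 S)
theorem e8_2 : S.op (S.f 2) (S.pt 1 [3]) = (S.pt 1 [3, 2]) := 
  rfl
theorem e19_2 : S.op (S.f 2) (S.pt 1 [3, 2]) = (S.pt 1 [3]) := 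
  S.flip (e8_2 S)
theorem e9_0 : S.op (S.f 0) (S.pt 2 [3]) = (S.pt 2 [3, 0]) := 
  rfl
theorem e20_0 : S.op (S.f 0) (S.pt 2 [3, 0]) = (S.pt 2 [3]) := 
  S.flip (e9_0 S)
theorem e9_1 : S.op (S.f 1) (S.pt 2 [3]) = (S.pt 2 [3, 1]) := 
  rfl
theorem e21_1 : S.op (S.f 1) (S.pt 2 [3, 1]) = (S.pt 2 [3]) := 
  S.flip (e9_1 S)
theorem e10_3 : S.op (S.f 3) (S.pt 0 [1, 2]) = (S.pt 0 [1, 2, 3]) := 
  rfl
theorem e22_3 : S.op (S.f 3) (S.pt 0 [1, 2, 3]) = (S.pt 0 [1, 2]) := 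
  S.flip (e10_3 S)
theorem e11_2 : S.op (S.f 2) (S.pt 0 [1, 3]) = (S.pt 0 [1, 3, 2]) := 
  rfl
theorem e23_2 : S.op (S.f 2) (S.pt 0 [1, 3, 2]) = (S.pt 0 [1, 3]) := 
  S.flip (e11_2 S)
theorem e12_3 : S.op (S.f 3) (S.pt 0 [2, 1]) = (S.pt 0 [2, 1, 3]) := 
  rfl
theorem e24_3 : S.op (S.f 3) (S.pt 0 [2, 1, 3]) = (S.pt 0 [2, 1]) := 
  S.flip (e12_3 S)
theorem e13_1 : S.op (S.f 1) (S.pt 0 [2, 3]) = (S.pt 0 [2, 3, 1]) := 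
  rfl
theorem e25_1 : S.op (S.f 1) (S.pt 0 [2, 3, 1]) = (S.pt 0 [2, 3]) := 
  S.flip (e13_1 S)
theorem e14_2 : S.op (S.f 2) (S.pt 0 [3, 1]) = (S.pt 0 [3, 1, 2]) := 
  rfl
theorem e26_2 : S.op (S.f 2) (S.pt 0 [3, 1, 2]) = (S.pt 0 [3, 1]) := 
  S.flip (e14_2 S)
theorem e15_1 : S.op (S.f 1) (S.pt 0 [3, 2]) = (S.pt 0 [3, 2, 1]) := 
  rfl
theorem e27_1 : S.op (S.f 1) (S.pt 0 [3, 2, 1]) = (S.pt 0 [3, 2]) := 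
  S.flip (e15_1 S)
theorem e16_3 : S.op (S.f 3) (S.pt 1 [2, 0]) = (S.pt 1 [2, 0, 3]) := 
  rfl
theorem e28_3 : S.op (S.f 3) (S.pt 1 [2, 0, 3]) = (S.pt 1 [2, 0]) := 
  S.flip (e16_3 S)
theorem e17_0 : S.op (S.f 0) (S.pt 1 [2, 3]) = (S.pt 1 [2, 3, 0]) := 
  rfl
theorem e29_0 : S.op (S.f 0) (S.pt 1 [2, 3, 0]) = (S.pt 1 [2, 3]) := 
  S.flip (e17_0 S)
theorem e18_2 : S.op (S.f 2) (S.pt 1 [3, 0]) = (S.pt 1 [3, 0, 2]) := 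
  rfl
theorem e30_2 : S.op (S.f 2) (S.pt 1 [3, 0, 2]) = (S.pt 1 [3, 0]) := 
  S.flip (e18_2 S)
theorem e19_0 : S.op (S.f 0) (S.pt 1 [3, 2]) = (S.pt 1 [3, 2, 0]) := 
  rfl
theorem e31_0 : S.op (S.f 0) (S.pt 1 [3, 2, 0]) = (S.pt 1 [3, 2]) := 
  S.flip (e19_0 S)
theorem e20_1 : S.op (S.f 1) (S.pt 2 [3, 0]) = (S.pt 2 [3, 0, 1]) := 
  rfl
theorem e32_1 : S.op (S.f 1) (S.pt 2 [3, 0, 1]) = (S.pt 2 [3, 0]) := 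
  S.flip (e20_1 S)
theorem e21_0 : S.op (S.f 0) (S.pt 2 [3, 1]) = (S.pt 2 [3, 1, 0]) := 
  rfl
theorem e33_0 : S.op (S.f 0) (S.pt 2 [3, 1, 0]) = (S.pt 2 [3, 1]) := 
  S.flip (e21_0 S)
theorem e22_0 : S.op (S.f 0) (S.pt 0 [1, 2, 3]) = (S.pt 0 [1, 2, 3, 0]) := 
  rfl
theorem e34_0 : S.op (S.f 0) (S.pt 0 [1, 2, 3, 0]) = (S.pt 0 [1, 2, 3]) := 
  S.flip (e22_0 S)
theorem e22_1 : S.op (S.f 1) (S.pt 0 [1, 2, 3]) = (S.pt 0 [1, 2, 3, 1]) := 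
  rfl
theorem e35_1 : S.op (S.f 1) (S.pt 0 [1, 2, 3, 1]) = (S.pt 0 [1, 2, 3]) := 
  S.flip (e22_1 S)
theorem e22_2 : S.op (S.f 2) (S.pt 0 [1, 2, 3]) = (S.pt 0 [1, 2, 3, 2]) := 
  rfl
theorem e36_2 : S.op (S.f 2) (S.pt 0 [1, 2, 3, 2]) = (S.pt 0 [1, 2, 3]) := 
  S.flip (e22_2 S)
theorem e23_0 : S.op (S.f 0) (S.pt 0 [1, 3, 2]) = (S.pt 0 [1, 3, 2, 0]) := 
  rfl
theorem e37_0 : S.op (S.f 0) (S.pt 0 [1, 3, 2, 0]) = (S.pt 0 [1, 3, 2]) := 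
  S.flip (e23_0 S)
theorem e23_1 : S.op (S.f 1) (S.pt 0 [1, 3, 2]) = (S.pt 0 [1, 3, 2, 1]) := 
  rfl
theorem e38_1 : S.op (S.f 1) (S.pt 0 [1, 3, 2, 1]) = (S.pt 0 [1, 3, 2]) := 
  S.flip (e23_1 S)
theorem e24_0 : S.op (S.f 0) (S.pt 0 [2, 1, 3]) = (S.pt 0 [2, 1, 3, 0]) := 
  rfl
theorem e39_0 : S.op (S.f 0) (S.pt 0 [2, 1, 3, 0]) = (S.pt 0 [2, 1, 3]) := 
  S.flip (e24_0 S)
theorem e24_1 : S.op (S.f 1) (S.pt 0 [2, 1, 3]) = (S.pt 0 [2, 1, 3, 1]) := 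
  rfl
theorem e40_1 : S.op (S.f 1) (S.pt 0 [2, 1, 3, 1]) = (S.pt 0 [2, 1, 3]) := 
  S.flip (e24_1 S)
theorem e24_2 : S.op (S.f 2) (S.pt 0 [2, 1, 3]) = (S.pt 0 [2, 1, 3, 2]) := 
  rfl
theorem e41_2 : S.op (S.f 2) (S.pt 0 [2, 1, 3, 2]) = (S.pt 0 [2, 1, 3]) := 
  S.flip (e24_2 S)
theorem e25_0 : S.op (S.f 0) (S.pt 0 [2, 3, 1]) = (S.pt 0 [2, 3, 1, 0]) := 
  rfl
theorem e42_0 : S.op (S.f 0) (S.pt 0 [2, 3, 1, 0]) = (S.pt 0 [2, 3, 1]) := 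
  S.flip (e25_0 S)
theorem e25_2 : S.op (S.f 2) (S.pt 0 [2, 3, 1]) = (S.pt 0 [2, 3, 1, 2]) := 
  rfl
theorem e43_2 : S.op (S.f 2) (S.pt 0 [2, 3, 1, 2]) = (S.pt 0 [2, 3, 1]) := 
  S.flip (e25_2 S)
theorem e26_0 : S.op (S.f 0) (S.pt 0 [3, 1, 2]) = (S.pt 0 [3, 1, 2, 0]) := 
  rfl
theorem e44_0 : S.op (S.f 0) (S.pt 0 [3, 1, 2, 0]) = (S.pt 0 [3, 1, 2]) := 
  S.flip (e26_0 S)
theorem e26_1 : S.op (S.f 1) (S.pt 0 [3, 1, 2]) = (S.pt 0 [3, 1, 2, 1]) := 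
  rfl
theorem e45_1 : S.op (S.f 1) (S.pt 0 [3, 1, 2, 1]) = (S.pt 0 [3, 1, 2]) := 
  S.flip (e26_1 S)
theorem e26_3 : S.op (S.f 3) (S.pt 0 [3, 1, 2]) = (S.pt 0 [3, 1, 2, 3]) := 
  rfl
theorem e46_3 : S.op (S.f 3) (S.pt 0 [3, 1, 2, 3]) = (S.pt 0 [3, 1, 2]) := 
  S.flip (e26_3 S)
theorem e27_0 : S.op (S.f 0) (S.pt 0 [3, 2, 1]) = (S.pt 0 [3, 2, 1, 0]) := 
  rfl
theorem e47_0 : S.op (S.f 0) (S.pt 0 [3, 2, 1, 0]) = (S.pt 0 [3, 2, 1]) := 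
  S.flip (e27_0 S)
theorem e27_3 : S.op (S.f 3) (S.pt 0 [3, 2, 1]) = (S.pt 0 [3, 2, 1, 3]) := 
  rfl
theorem e48_3 : S.op (S.f 3) (S.pt 0 [3, 2, 1, 3]) = (S.pt 0 [3, 2, 1]) := 
  S.flip (e27_3 S)
theorem e28_1 : S.op (S.f 1) (S.pt 1 [2, 0, 3]) = (S.pt 1 [2, 0, 3, 1]) := 
  rfl
theorem e49_1 : S.op (S.f 1) (S.pt 1 [2, 0, 3, 1]) = (S.pt 1 [2, 0, 3]) := 
  S.flip (e28_1 S)
theorem e28_2 : S.op (S.f 2) (S.pt 1 [2, 0, 3]) = (S.pt 1 [2, 0, 3, 2]) := 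
  rfl
theorem e50_2 : S.op (S.f 2) (S.pt 1 [2, 0, 3, 2]) = (S.pt 1 [2, 0, 3]) := 
  S.flip (e28_2 S)
theorem e29_1 : S.op (S.f 1) (S.pt 1 [2, 3, 0]) = (S.pt 1 [2, 3, 0, 1]) := 
  rfl
theorem e51_1 : S.op (S.f 1) (S.pt 1 [2, 3, 0, 1]) = (S.pt 1 [2, 3, 0]) := 
  S.flip (e29_1 S)
theorem e29_2 : S.op (S.f 2) (S.pt 1 [2, 3, 0]) = (S.pt 1 [2, 3, 0, 2]) := 
  rfl
theorem e52_2 : S.op (S.f 2) (S.pt 1 [2, 3, 0, 2]) = (S.pt 1 [2, 3, 0]) := 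
  S.flip (e29_2 S)
theorem e30_1 : S.op (S.f 1) (S.pt 1 [3, 0, 2]) = (S.pt 1 [3, 0, 2, 1]) := 
  rfl
theorem e53_1 : S.op (S.f 1) (S.pt 1 [3, 0, 2, 1]) = (S.pt 1 [3, 0, 2]) := 
  S.flip (e30_1 S)
theorem e30_3 : S.op (S.f 3) (S.pt 1 [3, 0, 2]) = (S.pt 1 [3, 0, 2, 3]) := 
  rfl
theorem e54_3 : S.op (S.f 3) (S.pt 1 [3, 0, 2, 3]) = (S.pt 1 [3, 0, 2]) := 
  S.flip (e30_3 S)
theorem e31_1 : S.op (S.f 1) (S.pt 1 [3, 2, 0]) = (S.pt 1 [3, 2, 0, 1]) := 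
  rfl
theorem e55_1 : S.op (S.f 1) (S.pt 1 [3, 2, 0, 1]) = (S.pt 1 [3, 2, 0]) := 
  S.flip (e31_1 S)
theorem e31_3 : S.op (S.f 3) (S.pt 1 [3, 2, 0]) = (S.pt 1 [3, 2, 0, 3]) := 
  rfl
theorem e56_3 : S.op (S.f 3) (S.pt 1 [3, 2, 0, 3]) = (S.pt 1 [3, 2, 0]) := 
  S.flip (e31_3 S)
theorem e32_2 : S.op (S.f 2) (S.pt 2 [3, 0, 1]) = (S.pt 2 [3, 0, 1, 2]) := 
  rfl
theorem e57_2 : S.op (S.f 2) (S.pt 2 [3, 0, 1, 2]) = (S.pt 2 [3, 0, 1]) := 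
  S.flip (e32_2 S)
theorem e32_3 : S.op (S.f 3) (S.pt 2 [3, 0, 1]) = (S.pt 2 [3, 0, 1, 3]) := 
  rfl
theorem e58_3 : S.op (S.f 3) (S.pt 2 [3, 0, 1, 3]) = (S.pt 2 [3, 0, 1]) := 
  S.flip (e32_3 S)
theorem e33_2 : S.op (S.f 2) (S.pt 2 [3, 1, 0]) = (S.pt 2 [3, 1, 0, 2]) := 
  rfl
theorem e59_2 : S.op (S.f 2) (S.pt 2 [3, 1, 0, 2]) = (S.pt 2 [3, 1, 0]) := 
  S.flip (e33_2 S)
theorem e33_3 : S.op (S.f 3) (S.pt 2 [3, 1, 0]) = (S.pt 2 [3, 1, 0, 3]) := 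
  rfl
theorem e60_3 : S.op (S.f 3) (S.pt 2 [3, 1, 0, 3]) = (S.pt 2 [3, 1, 0]) := 
  S.flip (e33_3 S)
theorem e34_2 : S.op (S.f 2) (S.pt 0 [1, 2, 3, 0]) = (S.pt 0 [1, 2, 3, 0, 2]) := 
  rfl
theorem e61_2 : S.op (S.f 2) (S.pt 0 [1, 2, 3, 0, 2]) = (S.pt 0 [1, 2, 3, 0]) := 
  S.flip (e34_2 S)
theorem e35_2 : S.op (S.f 2) (S.pt 0 [1, 2, 3, 1]) = (S.pt 0 [1, 2, 3, 1, 2]) := 
  rfl
theorem e62_2 : S.op (S.f 2) (S.pt 0 [1, 2, 3, 1, 2]) = (S.pt 0 [1, 2, 3, 1]) := 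
  S.flip (e35_2 S)
theorem e37_3 : S.op (S.f 3) (S.pt 0 [1, 3, 2, 0]) = (S.pt 0 [1, 3, 2, 0, 3]) := 
  rfl
theorem e63_3 : S.op (S.f 3) (S.pt 0 [1, 3, 2, 0, 3]) = (S.pt 0 [1, 3, 2, 0]) := 
  S.flip (e37_3 S)
theorem e38_3 : S.op (S.f 3) (S.pt 0 [1, 3, 2, 1]) = (S.pt 0 [1, 3, 2, 1, 3]) := 
  rfl
theorem e64_3 : S.op (S.f 3) (S.pt 0 [1, 3, 2, 1, 3]) = (S.pt 0 [1, 3, 2, 1]) := 
  S.flip (e38_3 S)
theorem e39_1 : S.op (S.f 1) (S.pt 0 [2, 1, 3, 0]) = (S.pt 0 [2, 1, 3, 0, 1]) := 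
  rfl
theorem e65_1 : S.op (S.f 1) (S.pt 0 [2, 1, 3, 0, 1]) = (S.pt 0 [2, 1, 3, 0]) := 
  S.flip (e39_1 S)
theorem e41_1 : S.op (S.f 1) (S.pt 0 [2, 1, 3, 2]) = (S.pt 0 [2, 1, 3, 2, 1]) := 
  rfl
theorem e66_1 : S.op (S.f 1) (S.pt 0 [2, 1, 3, 2, 1]) = (S.pt 0 [2, 1, 3, 2]) := 
  S.flip (e41_1 S)
theorem e42_3 : S.op (S.f 3) (S.pt 0 [2, 3, 1, 0]) = (S.pt 0 [2, 3, 1, 0, 3]) := 
  rfl
theorem e67_3 : S.op (S.f 3) (S.pt 0 [2, 3, 1, 0, 3]) = (S.pt 0 [2, 3, 1, 0]) := 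
  S.flip (e42_3 S)
theorem e43_3 : S.op (S.f 3) (S.pt 0 [2, 3, 1, 2]) = (S.pt 0 [2, 3, 1, 2, 3]) := 
  rfl
theorem e68_3 : S.op (S.f 3) (S.pt 0 [2, 3, 1, 2, 3]) = (S.pt 0 [2, 3, 1, 2]) := 
  S.flip (e43_3 S)
theorem e44_1 : S.op (S.f 1) (S.pt 0 [3, 1, 2, 0]) = (S.pt 0 [3, 1, 2, 0, 1]) := 
  rfl
theorem e69_1 : S.op (S.f 1) (S.pt 0 [3, 1, 2, 0, 1]) = (S.pt 0 [3, 1, 2, 0]) := 
  S.flip (e44_1 S)
theorem e46_1 : S.op (S.f 1) (S.pt 0 [3, 1, 2, 3]) = (S.pt 0 [3, 1, 2, 3, 1]) := 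
  rfl
theorem e70_1 : S.op (S.f 1) (S.pt 0 [3, 1, 2, 3, 1]) = (S.pt 0 [3, 1, 2, 3]) := 
  S.flip (e46_1 S)
theorem e47_2 : S.op (S.f 2) (S.pt 0 [3, 2, 1, 0]) = (S.pt 0 [3, 2, 1, 0, 2]) := 
  rfl
theorem e71_2 : S.op (S.f 2) (S.pt 0 [3, 2, 1, 0, 2]) = (S.pt 0 [3, 2, 1, 0]) := 
  S.flip (e47_2 S)
theorem e48_2 : S.op (S.f 2) (S.pt 0 [3, 2, 1, 3]) = (S.pt 0 [3, 2, 1, 3, 2]) := 
  rfl
theorem e72_2 : S.op (S.f 2) (S.pt 0 [3, 2, 1, 3, 2]) = (S.pt 0 [3, 2, 1, 3]) := 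
  S.flip (e48_2 S)
theorem e61_1 : S.op (S.f 1) (S.pt 0 [1, 2, 3, 0, 2]) = (S.pt 0 [1, 2, 3, 0, 2, 1]) := 
  rfl
theorem e73_1 : S.op (S.f 1) (S.pt 0 [1, 2, 3, 0, 2, 1]) = (S.pt 0 [1, 2, 3, 0, 2]) := 
  S.flip (e61_1 S)
theorem e61_3 : S.op (S.f 3) (S.pt 0 [1, 2, 3, 0, 2]) = (S.pt 0 [1, 2, 3, 0, 2, 3]) := 
  rfl
theorem e74_3 : S.op (S.f 3) (S.pt 0 [1, 2, 3, 0, 2, 3]) = (S.pt 0 [1, 2, 3, 0, 2]) := 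
  S.flip (e61_3 S)
theorem e62_0 : S.op (S.f 0) (S.pt 0 [1, 2, 3, 1, 2]) = (S.pt 0 [1, 2, 3, 1, 2, 0]) := 
  rfl
theorem e75_0 : S.op (S.f 0) (S.pt 0 [1, 2, 3, 1, 2, 0]) = (S.pt 0 [1, 2, 3, 1, 2]) := 
  S.flip (e62_0 S)
theorem e62_3 : S.op (S.f 3) (S.pt 0 [1, 2, 3, 1, 2]) = (S.pt 0 [1, 2, 3, 1, 2, 3]) := 
  rfl
theorem e76_3 : S.op (S.f 3) (S.pt 0 [1, 2, 3, 1, 2, 3]) = (S.pt 0 [1, 2, 3, 1, 2]) := 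
  S.flip (e62_3 S)
theorem e63_1 : S.op (S.f 1) (S.pt 0 [1, 3, 2, 0, 3]) = (S.pt 0 [1, 3, 2, 0, 3, 1]) := 
  rfl
theorem e77_1 : S.op (S.f 1) (S.pt 0 [1, 3, 2, 0, 3, 1]) = (S.pt 0 [1, 3, 2, 0, 3]) := 
  S.flip (e63_1 S)
theorem e63_2 : S.op (S.f 2) (S.pt 0 [1, 3, 2, 0, 3]) = (S.pt 0 [1, 3, 2, 0, 3, 2]) := 
  rfl
theorem e78_2 : S.op (S.f 2) (S.pt 0 [1, 3, 2, 0, 3, 2]) = (S.pt 0 [1, 3, 2, 0, 3]) := 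
  S.flip (e63_2 S)
theorem e64_0 : S.op (S.f 0) (S.pt 0 [1, 3, 2, 1, 3]) = (S.pt 0 [1, 3, 2, 1, 3, 0]) := 
  rfl
theorem e79_0 : S.op (S.f 0) (S.pt 0 [1, 3, 2, 1, 3, 0]) = (S.pt 0 [1, 3, 2, 1, 3]) := 
  S.flip (e64_0 S)
theorem e64_2 : S.op (S.f 2) (S.pt 0 [1, 3, 2, 1, 3]) = (S.pt 0 [1, 3, 2, 1, 3, 2]) := 
  rfl
theorem e80_2 : S.op (S.f 2) (S.pt 0 [1, 3, 2, 1, 3, 2]) = (S.pt 0 [1, 3, 2, 1, 3]) := 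
  S.flip (e64_2 S)
theorem e1_0 : S.op (S.f 0) (S.pt 1 []) = (S.pt 0 [1]) := 
  S.deduce (i := (0, [])) (j := (1, []))
    (pre := []) (g := 0) (suf := [1]) rfl
    (QG.Chain.nil S (S.pt 1 []))
    (QG.Chain.cons (e0_1 S) (QG.Chain.nil S (S.pt 0 [1])))
theorem e4_0 : S.op (S.f 0) (S.pt 0 [1]) = (S.pt 1 []) := 
  S.flip (e1_0 S)
theorem e2_0 : S.op (S.f 0) (S.pt 2 []) = (S.pt 0 [2]) := 
  S.deduce (i := (0, [])) (j := (2, []))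
    (pre := []) (g := 0) (suf := [2]) rfl
    (QG.Chain.nil S (S.pt 2 []))
    (QG.Chain.cons (e0_2 S) (QG.Chain.nil S (S.pt 0 [2])))
theorem e5_0 : S.op (S.f 0) (S.pt 0 [2]) = (S.pt 2 []) := 
  S.flip (e2_0 S)
theorem e3_0 : S.op (S.f 0) (S.pt 3 []) = (S.pt 0 [3]) := 
  S.deduce (i := (0, [])) (j := (3, []))
    (pre := []) (g := 0) (suf := [3]) rfl
    (QG.Chain.nil S (S.pt 3 []))
    (QG.Chain.cons (e0_3 S) (QG.Chain.nil S (S.pt 0 [3])))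
theorem e6_0 : S.op (S.f 0) (S.pt 0 [3]) = (S.pt 3 []) := 
  S.flip (e3_0 S)
theorem e16_2 : S.op (S.f 2) (S.pt 1 [2, 0]) = (S.pt 0 [2, 1]) := 
  S.deduce (i := (0, [])) (j := (1, [2]))
    (pre := [0]) (g := 2) (suf := [1, 2]) rfl
    (QG.Chain.cons (e7_0 S) (QG.Chain.nil S (S.pt 1 [2, 0])))
    (QG.Chain.cons (e0_2 S) (QG.Chain.cons (e5_1 S) (QG.Chain.nil S (S.pt 0 [2, 1]))))
theorem e12_2 : S.op (S.f 2) (S.pt 0 [2, 1]) = (S.pt 1 [2, 0]) := 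
  S.flip (e16_2 S)
theorem e18_3 : S.op (S.f 3) (S.pt 1 [3, 0]) = (S.pt 0 [3, 1]) := 
  S.deduce (i := (0, [])) (j := (1, [3]))
    (pre := [0]) (g := 3) (suf := [1, 3]) rfl
    (QG.Chain.cons (e8_0 S) (QG.Chain.nil S (S.pt 1 [3, 0])))
    (QG.Chain.cons (e0_3 S) (QG.Chain.cons (e6_1 S) (QG.Chain.nil S (S.pt 0 [3, 1]))))
theorem e14_3 : S.op (S.f 3) (S.pt 0 [3, 1]) = (S.pt 1 [3, 0]) := 
  S.flip (e18_3 S)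
theorem e20_3 : S.op (S.f 3) (S.pt 2 [3, 0]) = (S.pt 0 [3, 2]) := 
  S.deduce (i := (0, [])) (j := (2, [3]))
    (pre := [0]) (g := 3) (suf := [2, 3]) rfl
    (QG.Chain.cons (e9_0 S) (QG.Chain.nil S (S.pt 2 [3, 0])))
    (QG.Chain.cons (e0_3 S) (QG.Chain.cons (e6_2 S) (QG.Chain.nil S (S.pt 0 [3, 2]))))
theorem e15_3 : S.op (S.f 3) (S.pt 0 [3, 2]) = (S.pt 2 [3, 0]) := 
  S.flip (e20_3 S)
theorem e2_1 : S.op (S.f 1) (S.pt 2 []) = (S.pt 1 [2]) := 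
  S.deduce (i := (1, [])) (j := (2, []))
    (pre := []) (g := 1) (suf := [2]) rfl
    (QG.Chain.nil S (S.pt 2 []))
    (QG.Chain.cons (e1_2 S) (QG.Chain.nil S (S.pt 1 [2])))
theorem e7_1 : S.op (S.f 1) (S.pt 1 [2]) = (S.pt 2 []) := 
  S.flip (e2_1 S)
theorem e3_1 : S.op (S.f 1) (S.pt 3 []) = (S.pt 1 [3]) := 
  S.deduce (i := (1, [])) (j := (3, []))
    (pre := []) (g := 1) (suf := [3]) rfl
    (QG.Chain.nil S (S.pt 3 []))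
    (QG.Chain.cons (e1_3 S) (QG.Chain.nil S (S.pt 1 [3])))
theorem e8_1 : S.op (S.f 1) (S.pt 1 [3]) = (S.pt 3 []) := 
  S.flip (e3_1 S)
theorem e21_3 : S.op (S.f 3) (S.pt 2 [3, 1]) = (S.pt 1 [3, 2]) := 
  S.deduce (i := (1, [])) (j := (2, [3]))
    (pre := [1]) (g := 3) (suf := [2, 3]) rfl
    (QG.Chain.cons (e9_1 S) (QG.Chain.nil S (S.pt 2 [3, 1])))
    (QG.Chain.cons (e1_3 S) (QG.Chain.cons (e8_2 S) (QG.Chain.nil S (S.pt 1 [3, 2]))))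
theorem e19_3 : S.op (S.f 3) (S.pt 1 [3, 2]) = (S.pt 2 [3, 1]) := 
  S.flip (e21_3 S)
theorem e10_1 : S.op (S.f 1) (S.pt 0 [1, 2]) = (S.pt 1 [2, 0]) := 
  S.deduce (i := (1, [])) (j := (0, [1, 2]))
    (pre := []) (g := 1) (suf := [2, 1, 0, 1, 2]) rfl
    (QG.Chain.nil S (S.pt 0 [1, 2]))
    (QG.Chain.cons (e1_2 S) (QG.Chain.cons (e7_1 S) (QG.Chain.cons (e2_0 S) (QG.Chain.cons (e5_1 S) (QG.Chain.cons (e12_2 S) (QG.Chain.nil S (S.pt 1 [2, 0])))))))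
theorem e16_1 : S.op (S.f 1) (S.pt 1 [2, 0]) = (S.pt 0 [1, 2]) := 
  S.flip (e10_1 S)
theorem e11_1 : S.op (S.f 1) (S.pt 0 [1, 3]) = (S.pt 1 [3, 0]) := 
  S.deduce (i := (1, [])) (j := (0, [1, 3]))
    (pre := []) (g := 1) (suf := [3, 1, 0, 1, 3]) rfl
    (QG.Chain.nil S (S.pt 0 [1, 3]))
    (QG.Chain.cons (e1_3 S) (QG.Chain.cons (e8_1 S) (QG.Chain.cons (e3_0 S) (QG.Chain.cons (e6_1 S) (QG.Chain.cons (e14_3 S) (QG.Chain.nil S (S.pt 1 [3, 0])))))))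
theorem e18_1 : S.op (S.f 1) (S.pt 1 [3, 0]) = (S.pt 0 [1, 3]) := 
  S.flip (e11_1 S)
theorem e10_0 : S.op (S.f 0) (S.pt 0 [1, 2]) = (S.pt 0 [2, 1]) := 
  S.deduce (i := (1, [])) (j := (1, [2, 0]))
    (pre := [1]) (g := 0) (suf := [2, 1, 2, 0]) rfl
    (QG.Chain.cons (e16_1 S) (QG.Chain.nil S (S.pt 0 [1, 2])))
    (QG.Chain.cons (e1_0 S) (QG.Chain.cons (e4_2 S) (QG.Chain.cons (e10_1 S) (QG.Chain.cons (e16_2 S) (QG.Chain.nil S (S.pt 0 [2, 1]))))))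
theorem e12_0 : S.op (S.f 0) (S.pt 0 [2, 1]) = (S.pt 0 [1, 2]) := 
  S.flip (e10_0 S)
theorem e11_0 : S.op (S.f 0) (S.pt 0 [1, 3]) = (S.pt 0 [3, 1]) := 
  S.deduce (i := (1, [])) (j := (1, [3, 0]))
    (pre := [1]) (g := 0) (suf := [3, 1, 3, 0]) rfl
    (QG.Chain.cons (e18_1 S) (QG.Chain.nil S (S.pt 0 [1, 3])))
    (QG.Chain.cons (e1_0 S) (QG.Chain.cons (e4_3 S) (QG.Chain.cons (e11_1 S) (QG.Chain.cons (e18_3 S) (QG.Chain.nil S (S.pt 0 [3, 1]))))))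
theorem e14_0 : S.op (S.f 0) (S.pt 0 [3, 1]) = (S.pt 0 [1, 3]) := 
  S.flip (e11_0 S)
theorem e45_2 : S.op (S.f 2) (S.pt 0 [3, 1, 2, 1]) = (S.pt 0 [3, 2, 1]) := 
  S.deduce (i := (1, [])) (j := (0, [3, 1, 2]))
    (pre := [1]) (g := 2) (suf := [1, 3, 0, 3, 1, 2]) rfl
    (QG.Chain.cons (e26_1 S) (QG.Chain.nil S (S.pt 0 [3, 1, 2, 1])))
    (QG.Chain.cons (e1_2 S) (QG.Chain.cons (e7_1 S) (QG.Chain.cons (e2_3 S) (QG.Chain.cons (e9_0 S) (QG.Chain.cons (e20_3 S) (QG.Chain.cons (e15_1 S) (QG.Chain.nil S (S.pt 0 [3, 2, 1]))))))))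
theorem e27_2 : S.op (S.f 2) (S.pt 0 [3, 2, 1]) = (S.pt 0 [3, 1, 2, 1]) := 
  S.flip (e45_2 S)
theorem e45_3 : S.op (S.f 3) (S.pt 0 [3, 1, 2, 1]) = (S.pt 1 [2, 3, 0]) := 
  S.deduce (i := (1, [])) (j := (0, [3, 2, 1]))
    (pre := [1, 1, 2]) (g := 3) (suf := [0, 3, 2, 1]) rfl
    (QG.Chain.cons (e27_1 S) (QG.Chain.cons (e15_1 S) (QG.Chain.cons (e27_2 S) (QG.Chain.nil S (S.pt 0 [3, 1, 2, 1])))))
    (QG.Chain.cons (e1_1 S) (QG.Chain.cons (e1_2 S) (QG.Chain.cons (e7_3 S) (QG.Chain.cons (e17_0 S) (QG.Chain.nil S (S.pt 1 [2, 3, 0]))))))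
theorem e29_3 : S.op (S.f 3) (S.pt 1 [2, 3, 0]) = (S.pt 0 [3, 1, 2, 1]) := 
  S.flip (e45_3 S)
theorem e3_2 : S.op (S.f 2) (S.pt 3 []) = (S.pt 2 [3]) := 
  S.deduce (i := (2, [])) (j := (3, []))
    (pre := []) (g := 2) (suf := [3]) rfl
    (QG.Chain.nil S (S.pt 3 []))
    (QG.Chain.cons (e2_3 S) (QG.Chain.nil S (S.pt 2 [3])))
theorem e9_2 : S.op (S.f 2) (S.pt 2 [3]) = (S.pt 3 []) := 
  S.flip (e3_2 S)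
theorem e13_2 : S.op (S.f 2) (S.pt 0 [2, 3]) = (S.pt 2 [3, 0]) := 
  S.deduce (i := (2, [])) (j := (0, [2, 3]))
    (pre := []) (g := 2) (suf := [3, 2, 0, 2, 3]) rfl
    (QG.Chain.nil S (S.pt 0 [2, 3]))
    (QG.Chain.cons (e2_3 S) (QG.Chain.cons (e9_2 S) (QG.Chain.cons (e3_0 S) (QG.Chain.cons (e6_2 S) (QG.Chain.cons (e15_3 S) (QG.Chain.nil S (S.pt 2 [3, 0])))))))
theorem e20_2 : S.op (S.f 2) (S.pt 2 [3, 0]) = (S.pt 0 [2, 3]) := 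
  S.flip (e13_2 S)
theorem e17_2 : S.op (S.f 2) (S.pt 1 [2, 3]) = (S.pt 2 [3, 1]) := 
  S.deduce (i := (2, [])) (j := (1, [2, 3]))
    (pre := []) (g := 2) (suf := [3, 2, 1, 2, 3]) rfl
    (QG.Chain.nil S (S.pt 1 [2, 3]))
    (QG.Chain.cons (e2_3 S) (QG.Chain.cons (e9_2 S) (QG.Chain.cons (e3_1 S) (QG.Chain.cons (e8_2 S) (QG.Chain.cons (e19_3 S) (QG.Chain.nil S (S.pt 2 [3, 1])))))))
theorem e21_2 : S.op (S.f 2) (S.pt 2 [3, 1]) = (S.pt 1 [2, 3]) := 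
  S.flip (e17_2 S)
theorem e13_0 : S.op (S.f 0) (S.pt 0 [2, 3]) = (S.pt 0 [3, 2]) := 
  S.deduce (i := (2, [])) (j := (2, [3, 0]))
    (pre := [2]) (g := 0) (suf := [3, 2, 3, 0]) rfl
    (QG.Chain.cons (e20_2 S) (QG.Chain.nil S (S.pt 0 [2, 3])))
    (QG.Chain.cons (e2_0 S) (QG.Chain.cons (e5_3 S) (QG.Chain.cons (e13_2 S) (QG.Chain.cons (e20_3 S) (QG.Chain.nil S (S.pt 0 [3, 2]))))))
theorem e15_0 : S.op (S.f 0) (S.pt 0 [3, 2]) = (S.pt 0 [2, 3]) := 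
  S.flip (e13_0 S)
theorem e17_1 : S.op (S.f 1) (S.pt 1 [2, 3]) = (S.pt 1 [3, 2]) := 
  S.deduce (i := (2, [])) (j := (2, [3, 1]))
    (pre := [2]) (g := 1) (suf := [3, 2, 3, 1]) rfl
    (QG.Chain.cons (e21_2 S) (QG.Chain.nil S (S.pt 1 [2, 3])))
    (QG.Chain.cons (e2_1 S) (QG.Chain.cons (e7_3 S) (QG.Chain.cons (e17_2 S) (QG.Chain.cons (e21_3 S) (QG.Chain.nil S (S.pt 1 [3, 2]))))))
theorem e19_1 : S.op (S.f 1) (S.pt 1 [3, 2]) = (S.pt 1 [2, 3]) := 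
  S.flip (e17_1 S)
theorem e36_3 : S.op (S.f 3) (S.pt 0 [1, 2, 3, 2]) = (S.pt 0 [1, 3, 2]) := 
  S.deduce (i := (2, [])) (j := (0, [1, 2, 3]))
    (pre := [2]) (g := 3) (suf := [2, 1, 0, 1, 2, 3]) rfl
    (QG.Chain.cons (e22_2 S) (QG.Chain.nil S (S.pt 0 [1, 2, 3, 2])))
    (QG.Chain.cons (e2_3 S) (QG.Chain.cons (e9_2 S) (QG.Chain.cons (e3_1 S) (QG.Chain.cons (e8_0 S) (QG.Chain.cons (e18_1 S) (QG.Chain.cons (e11_2 S) (QG.Chain.nil S (S.pt 0 [1, 3, 2]))))))))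
theorem e23_3 : S.op (S.f 3) (S.pt 0 [1, 3, 2]) = (S.pt 0 [1, 2, 3, 2]) := 
  S.flip (e36_3 S)
theorem e36_1 : S.op (S.f 1) (S.pt 0 [1, 2, 3, 2]) = (S.pt 2 [3, 1, 0]) := 
  S.deduce (i := (2, [])) (j := (0, [1, 3, 2]))
    (pre := [2, 2, 3]) (g := 1) (suf := [0, 1, 3, 2]) rfl
    (QG.Chain.cons (e23_2 S) (QG.Chain.cons (e11_2 S) (QG.Chain.cons (e23_3 S) (QG.Chain.nil S (S.pt 0 [1, 2, 3, 2])))))
    (QG.Chain.cons (e2_2 S) (QG.Chain.cons (e2_3 S) (QG.Chain.cons (e9_1 S) (QG.Chain.cons (e21_0 S) (QG.Chain.nil S (S.pt 2 [3, 1, 0]))))))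
theorem e33_1 : S.op (S.f 1) (S.pt 2 [3, 1, 0]) = (S.pt 0 [1, 2, 3, 2]) := 
  S.flip (e36_1 S)
theorem e37_2 : S.op (S.f 2) (S.pt 0 [1, 3, 2, 0]) = (S.pt 0 [3, 1, 2, 0]) := 
  S.deduce (i := (2, [])) (j := (0, [1, 3, 2, 0]))
    (pre := []) (g := 2) (suf := [0, 2, 3, 1, 0, 1, 3, 2, 0]) rfl
    (QG.Chain.nil S (S.pt 0 [1, 3, 2, 0]))
    (QG.Chain.cons (e2_0 S) (QG.Chain.cons (e5_2 S) (QG.Chain.cons (e0_3 S) (QG.Chain.cons (e6_1 S) (QG.Chain.cons (e14_0 S) (QG.Chain.cons (e11_1 S) (QG.Chain.cons (e18_3 S) (QG.Chain.cons (e14_2 S) (QG.Chain.cons (e26_0 S) (QG.Chain.nil S (S.pt 0 [3, 1, 2, 0])))))))))))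
theorem e44_2 : S.op (S.f 2) (S.pt 0 [3, 1, 2, 0]) = (S.pt 0 [1, 3, 2, 0]) := 
  S.flip (e37_2 S)
theorem e38_2 : S.op (S.f 2) (S.pt 0 [1, 3, 2, 1]) = (S.pt 1 [3, 0, 2, 1]) := 
  S.deduce (i := (2, [])) (j := (0, [1, 3, 2, 1]))
    (pre := []) (g := 2) (suf := [1, 2, 3, 1, 0, 1, 3, 2, 1]) rfl
    (QG.Chain.nil S (S.pt 0 [1, 3, 2, 1]))
    (QG.Chain.cons (e2_1 S) (QG.Chain.cons (e7_2 S) (QG.Chain.cons (e1_3 S) (QG.Chain.cons (e8_1 S) (QG.Chain.cons (e3_0 S) (QG.Chain.cons (e6_1 S) (QG.Chain.cons (e14_3 S) (QG.Chain.cons (e18_2 S) (QG.Chain.cons (e30_1 S) (QG.Chain.nil S (S.pt 1 [3, 0, 2, 1])))))))))))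
theorem e53_2 : S.op (S.f 2) (S.pt 1 [3, 0, 2, 1]) = (S.pt 0 [1, 3, 2, 1]) := 
  S.flip (e38_2 S)
theorem e46_2 : S.op (S.f 2) (S.pt 0 [3, 1, 2, 3]) = (S.pt 1 [3, 0, 2, 3]) := 
  S.deduce (i := (2, [])) (j := (0, [3, 1, 2, 3]))
    (pre := []) (g := 2) (suf := [3, 2, 1, 3, 0, 3, 1, 2, 3]) rfl
    (QG.Chain.nil S (S.pt 0 [3, 1, 2, 3]))
    (QG.Chain.cons (e2_3 S) (QG.Chain.cons (e9_2 S) (QG.Chain.cons (e3_1 S) (QG.Chain.cons (e8_3 S) (QG.Chain.cons (e1_0 S) (QG.Chain.cons (e4_3 S) (QG.Chain.cons (e11_1 S) (QG.Chain.cons (e18_2 S) (QG.Chain.cons (e30_3 S) (QG.Chain.nil S (S.pt 1 [3, 0, 2, 3])))))))))))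
theorem e54_2 : S.op (S.f 2) (S.pt 1 [3, 0, 2, 3]) = (S.pt 0 [3, 1, 2, 3]) := 
  S.flip (e46_2 S)
theorem e80_3 : S.op (S.f 3) (S.pt 0 [1, 3, 2, 1, 3, 2]) = (S.pt 0 [2, 1, 3, 2, 1]) := 
  S.deduce (i := (2, [])) (j := (0, [1, 3, 2, 1, 3]))
    (pre := [2]) (g := 3) (suf := [1, 2, 3, 1, 0, 1, 3, 2, 1, 3]) rfl
    (QG.Chain.cons (e64_2 S) (QG.Chain.nil S (S.pt 0 [1, 3, 2, 1, 3, 2])))
    (QG.Chain.cons (e2_3 S) (QG.Chain.cons (e9_1 S) (QG.Chain.cons (e21_2 S) (QG.Chain.cons (e17_3 S) (QG.Chain.cons (e7_1 S) (QG.Chain.cons (e2_0 S) (QG.Chain.cons (e5_1 S) (QG.Chain.cons (e12_3 S) (QG.Chain.cons (e24_2 S) (QG.Chain.cons (e41_1 S) (QG.Chain.nil S (S.pt 0 [2, 1, 3, 2, 1]))))))))))))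
theorem e66_3 : S.op (S.f 3) (S.pt 0 [2, 1, 3, 2, 1]) = (S.pt 0 [1, 3, 2, 1, 3, 2]) := 
  S.flip (e80_3 S)
theorem e40_2 : S.op (S.f 2) (S.pt 0 [2, 1, 3, 1]) = (S.pt 1 [3, 2, 0]) := 
  S.deduce (i := (3, [])) (j := (0, [2, 1]))
    (pre := [3, 1]) (g := 2) (suf := [0, 2, 1]) rfl
    (QG.Chain.cons (e12_3 S) (QG.Chain.cons (e24_1 S) (QG.Chain.nil S (S.pt 0 [2, 1, 3, 1]))))
    (QG.Chain.cons (e3_1 S) (QG.Chain.cons (e8_2 S) (QG.Chain.cons (e19_0 S) (QG.Chain.nil S (S.pt 1 [3, 2, 0])))))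
theorem e31_2 : S.op (S.f 2) (S.pt 1 [3, 2, 0]) = (S.pt 0 [2, 1, 3, 1]) := 
  S.flip (e40_2 S)
theorem e28_0 : S.op (S.f 0) (S.pt 1 [2, 0, 3]) = (S.pt 0 [3, 1, 2, 1]) := 
  S.deduce (i := (3, [])) (j := (1, [2, 0]))
    (pre := [3]) (g := 0) (suf := [2, 1, 2, 0]) rfl
    (QG.Chain.cons (e16_3 S) (QG.Chain.nil S (S.pt 1 [2, 0, 3])))
    (QG.Chain.cons (e3_0 S) (QG.Chain.cons (e6_2 S) (QG.Chain.cons (e15_1 S) (QG.Chain.cons (e27_2 S) (QG.Chain.nil S (S.pt 0 [3, 1, 2, 1]))))))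
theorem e45_0 : S.op (S.f 0) (S.pt 0 [3, 1, 2, 1]) = (S.pt 1 [2, 0, 3]) := 
  S.flip (e28_0 S)
theorem e25_3 : S.op (S.f 3) (S.pt 0 [2, 3, 1]) = (S.pt 0 [2, 1, 3, 1]) := 
  S.deduce (i := (3, [])) (j := (0, [2, 3, 1]))
    (pre := []) (g := 3) (suf := [1, 3, 2, 0, 2, 3, 1]) rfl
    (QG.Chain.nil S (S.pt 0 [2, 3, 1]))
    (QG.Chain.cons (e3_1 S) (QG.Chain.cons (e8_3 S) (QG.Chain.cons (e1_2 S) (QG.Chain.cons (e7_0 S) (QG.Chain.cons (e16_2 S) (QG.Chain.cons (e12_3 S) (QG.Chain.cons (e24_1 S) (QG.Chain.nil S (S.pt 0 [2, 1, 3, 1])))))))))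
theorem e40_3 : S.op (S.f 3) (S.pt 0 [2, 1, 3, 1]) = (S.pt 0 [2, 3, 1]) := 
  S.flip (e25_3 S)
theorem e54_1 : S.op (S.f 1) (S.pt 1 [3, 0, 2, 3]) = (S.pt 1 [3, 2, 0, 3]) := 
  S.deduce (i := (3, [])) (j := (0, [3, 1, 2]))
    (pre := [3, 2]) (g := 1) (suf := [3, 0, 3, 1, 2]) rfl
    (QG.Chain.cons (e26_3 S) (QG.Chain.cons (e46_2 S) (QG.Chain.nil S (S.pt 1 [3, 0, 2, 3]))))
    (QG.Chain.cons (e3_2 S) (QG.Chain.cons (e9_1 S) (QG.Chain.cons (e21_3 S) (QG.Chain.cons (e19_0 S) (QG.Chain.cons (e31_3 S) (QG.Chain.nil S (S.pt 1 [3, 2, 0, 3])))))))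
theorem e56_1 : S.op (S.f 1) (S.pt 1 [3, 2, 0, 3]) = (S.pt 1 [3, 0, 2, 3]) := 
  S.flip (e54_1 S)
theorem e46_0 : S.op (S.f 0) (S.pt 0 [3, 1, 2, 3]) = (S.pt 0 [3, 2, 1, 3]) := 
  S.deduce (i := (3, [])) (j := (1, [3, 0, 2]))
    (pre := [3, 2]) (g := 0) (suf := [3, 1, 3, 0, 2]) rfl
    (QG.Chain.cons (e30_3 S) (QG.Chain.cons (e54_2 S) (QG.Chain.nil S (S.pt 0 [3, 1, 2, 3]))))
    (QG.Chain.cons (e3_2 S) (QG.Chain.cons (e9_0 S) (QG.Chain.cons (e20_3 S) (QG.Chain.cons (e15_1 S) (QG.Chain.cons (e27_3 S) (QG.Chain.nil S (S.pt 0 [3, 2, 1, 3])))))))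
theorem e48_0 : S.op (S.f 0) (S.pt 0 [3, 2, 1, 3]) = (S.pt 0 [3, 1, 2, 3]) := 
  S.flip (e46_0 S)
theorem e58_1 : S.op (S.f 1) (S.pt 2 [3, 0, 1, 3]) = (S.pt 0 [3, 2, 1, 3]) := 
  S.deduce (i := (3, [])) (j := (2, [3, 0, 1]))
    (pre := [3]) (g := 1) (suf := [0, 3, 2, 3, 0, 1]) rfl
    (QG.Chain.cons (e32_3 S) (QG.Chain.nil S (S.pt 2 [3, 0, 1, 3])))
    (QG.Chain.cons (e3_1 S) (QG.Chain.cons (e8_0 S) (QG.Chain.cons (e18_3 S) (QG.Chain.cons (e14_2 S) (QG.Chain.cons (e26_3 S) (QG.Chain.cons (e46_0 S) (QG.Chain.nil S (S.pt 0 [3, 2, 1, 3]))))))))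
theorem e48_1 : S.op (S.f 1) (S.pt 0 [3, 2, 1, 3]) = (S.pt 2 [3, 0, 1, 3]) := 
  S.flip (e58_1 S)
theorem e60_0 : S.op (S.f 0) (S.pt 2 [3, 1, 0, 3]) = (S.pt 1 [3, 2, 0, 3]) := 
  S.deduce (i := (3, [])) (j := (2, [3, 1, 0]))
    (pre := [3]) (g := 0) (suf := [1, 3, 2, 3, 1, 0]) rfl
    (QG.Chain.cons (e33_3 S) (QG.Chain.nil S (S.pt 2 [3, 1, 0, 3])))
    (QG.Chain.cons (e3_0 S) (QG.Chain.cons (e6_1 S) (QG.Chain.cons (e14_3 S) (QG.Chain.cons (e18_2 S) (QG.Chain.cons (e30_3 S) (QG.Chain.cons (e54_1 S) (QG.Chain.nil S (S.pt 1 [3, 2, 0, 3]))))))))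
theorem e56_0 : S.op (S.f 0) (S.pt 1 [3, 2, 0, 3]) = (S.pt 2 [3, 1, 0, 3]) := 
  S.flip (e60_0 S)
theorem e34_3 : S.op (S.f 3) (S.pt 0 [1, 2, 3, 0]) = (S.pt 0 [2, 1, 3, 0]) := 
  S.deduce (i := (3, [])) (j := (0, [1, 2, 3, 0]))
    (pre := []) (g := 3) (suf := [0, 3, 2, 1, 0, 1, 2, 3, 0]) rfl
    (QG.Chain.nil S (S.pt 0 [1, 2, 3, 0]))
    (QG.Chain.cons (e3_0 S) (QG.Chain.cons (e6_3 S) (QG.Chain.cons (e0_2 S) (QG.Chain.cons (e5_1 S) (QG.Chain.cons (e12_0 S) (QG.Chain.cons (e10_1 S) (QG.Chain.cons (e16_2 S) (QG.Chain.cons (e12_3 S) (QG.Chain.cons (e24_0 S) (QG.Chain.nil S (S.pt 0 [2, 1, 3, 0])))))))))))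
theorem e39_3 : S.op (S.f 3) (S.pt 0 [2, 1, 3, 0]) = (S.pt 0 [1, 2, 3, 0]) := 
  S.flip (e34_3 S)
theorem e35_3 : S.op (S.f 3) (S.pt 0 [1, 2, 3, 1]) = (S.pt 1 [2, 0, 3, 1]) := 
  S.deduce (i := (3, [])) (j := (0, [1, 2, 3, 1]))
    (pre := []) (g := 3) (suf := [1, 3, 2, 1, 0, 1, 2, 3, 1]) rfl
    (QG.Chain.nil S (S.pt 0 [1, 2, 3, 1]))
    (QG.Chain.cons (e3_1 S) (QG.Chain.cons (e8_3 S) (QG.Chain.cons (e1_2 S) (QG.Chain.cons (e7_1 S) (QG.Chain.cons (e2_0 S) (QG.Chain.cons (e5_1 S) (QG.Chain.cons (e12_2 S) (QG.Chain.cons (e16_3 S) (QG.Chain.cons (e28_1 S) (QG.Chain.nil S (S.pt 1 [2, 0, 3, 1])))))))))))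
theorem e49_3 : S.op (S.f 3) (S.pt 1 [2, 0, 3, 1]) = (S.pt 0 [1, 2, 3, 1]) := 
  S.flip (e35_3 S)
theorem e41_3 : S.op (S.f 3) (S.pt 0 [2, 1, 3, 2]) = (S.pt 1 [2, 0, 3, 2]) := 
  S.deduce (i := (3, [])) (j := (0, [2, 1, 3, 2]))
    (pre := []) (g := 3) (suf := [2, 3, 1, 2, 0, 2, 1, 3, 2]) rfl
    (QG.Chain.nil S (S.pt 0 [2, 1, 3, 2]))
    (QG.Chain.cons (e3_2 S) (QG.Chain.cons (e9_3 S) (QG.Chain.cons (e2_1 S) (QG.Chain.cons (e7_2 S) (QG.Chain.cons (e1_0 S) (QG.Chain.cons (e4_2 S) (QG.Chain.cons (e10_1 S) (QG.Chain.cons (e16_3 S) (QG.Chain.cons (e28_2 S) (QG.Chain.nil S (S.pt 1 [2, 0, 3, 2])))))))))))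
theorem e50_3 : S.op (S.f 3) (S.pt 1 [2, 0, 3, 2]) = (S.pt 0 [2, 1, 3, 2]) := 
  S.flip (e41_3 S)
theorem e68_2 : S.op (S.f 2) (S.pt 0 [2, 3, 1, 2, 3]) = (S.pt 1 [3, 2, 0, 3]) := 
  S.deduce (i := (3, [])) (j := (0, [2, 3, 1, 2]))
    (pre := [3]) (g := 2) (suf := [1, 3, 2, 0, 2, 3, 1, 2]) rfl
    (QG.Chain.cons (e43_3 S) (QG.Chain.nil S (S.pt 0 [2, 3, 1, 2, 3])))
    (QG.Chain.cons (e3_2 S) (QG.Chain.cons (e9_1 S) (QG.Chain.cons (e21_3 S) (QG.Chain.cons (e19_2 S) (QG.Chain.cons (e8_0 S) (QG.Chain.cons (e18_2 S) (QG.Chain.cons (e30_3 S) (QG.Chain.cons (e54_1 S) (QG.Chain.nil S (S.pt 1 [3, 2, 0, 3]))))))))))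
theorem e56_2 : S.op (S.f 2) (S.pt 1 [3, 2, 0, 3]) = (S.pt 0 [2, 3, 1, 2, 3]) := 
  S.flip (e68_2 S)
theorem e44_3 : S.op (S.f 3) (S.pt 0 [3, 1, 2, 0]) = (S.pt 0 [3, 2, 1, 0]) := 
  S.deduce (i := (3, [])) (j := (0, [3, 1, 2, 0]))
    (pre := []) (g := 3) (suf := [0, 2, 1, 3, 0, 3, 1, 2, 0]) rfl
    (QG.Chain.nil S (S.pt 0 [3, 1, 2, 0]))
    (QG.Chain.cons (e3_0 S) (QG.Chain.cons (e6_2 S) (QG.Chain.cons (e15_1 S) (QG.Chain.cons (e27_3 S) (QG.Chain.cons (e48_0 S) (QG.Chain.cons (e46_3 S) (QG.Chain.cons (e26_1 S) (QG.Chain.cons (e45_2 S) (QG.Chain.cons (e27_0 S) (QG.Chain.nil S (S.pt 0 [3, 2, 1, 0])))))))))))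
theorem e47_3 : S.op (S.f 3) (S.pt 0 [3, 2, 1, 0]) = (S.pt 0 [3, 1, 2, 0]) := 
  S.flip (e44_3 S)
theorem e51_2 : S.op (S.f 2) (S.pt 1 [2, 3, 0, 1]) = (S.pt 1 [2, 0, 3, 1]) := 
  S.deduce (i := (3, [])) (j := (0, [3, 1, 2, 1]))
    (pre := [3, 1]) (g := 2) (suf := [1, 3, 0, 3, 1, 2, 1]) rfl
    (QG.Chain.cons (e45_3 S) (QG.Chain.cons (e29_1 S) (QG.Chain.nil S (S.pt 1 [2, 3, 0, 1]))))
    (QG.Chain.cons (e3_1 S) (QG.Chain.cons (e8_2 S) (QG.Chain.cons (e19_1 S) (QG.Chain.cons (e17_3 S) (QG.Chain.cons (e7_0 S) (QG.Chain.cons (e16_3 S) (QG.Chain.cons (e28_1 S) (QG.Chain.nil S (S.pt 1 [2, 0, 3, 1])))))))))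
theorem e49_2 : S.op (S.f 2) (S.pt 1 [2, 0, 3, 1]) = (S.pt 1 [2, 3, 0, 1]) := 
  S.flip (e51_2 S)
theorem e58_2 : S.op (S.f 2) (S.pt 2 [3, 0, 1, 3]) = (S.pt 2 [3, 1, 0, 3]) := 
  S.deduce (i := (3, [])) (j := (0, [3, 2, 1, 3]))
    (pre := [3, 3, 1]) (g := 2) (suf := [3, 0, 3, 2, 1, 3]) rfl
    (QG.Chain.cons (e48_3 S) (QG.Chain.cons (e27_3 S) (QG.Chain.cons (e48_1 S) (QG.Chain.nil S (S.pt 2 [3, 0, 1, 3])))))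
    (QG.Chain.cons (e3_3 S) (QG.Chain.cons (e3_1 S) (QG.Chain.cons (e8_2 S) (QG.Chain.cons (e19_3 S) (QG.Chain.cons (e21_0 S) (QG.Chain.cons (e33_3 S) (QG.Chain.nil S (S.pt 2 [3, 1, 0, 3]))))))))
theorem e60_2 : S.op (S.f 2) (S.pt 2 [3, 1, 0, 3]) = (S.pt 2 [3, 0, 1, 3]) := 
  S.flip (e58_2 S)
theorem e51_3 : S.op (S.f 3) (S.pt 1 [2, 3, 0, 1]) = (S.pt 0 [3, 1, 2, 3, 1]) := 
  S.deduce (i := (3, [])) (j := (1, [2, 3, 0, 1]))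
    (pre := []) (g := 3) (suf := [1, 0, 3, 2, 1, 2, 3, 0, 1]) rfl
    (QG.Chain.nil S (S.pt 1 [2, 3, 0, 1]))
    (QG.Chain.cons (e3_1 S) (QG.Chain.cons (e8_0 S) (QG.Chain.cons (e18_3 S) (QG.Chain.cons (e14_2 S) (QG.Chain.cons (e26_1 S) (QG.Chain.cons (e45_2 S) (QG.Chain.cons (e27_3 S) (QG.Chain.cons (e48_0 S) (QG.Chain.cons (e46_1 S) (QG.Chain.nil S (S.pt 0 [3, 1, 2, 3, 1])))))))))))
theorem e70_3 : S.op (S.f 3) (S.pt 0 [3, 1, 2, 3, 1]) = (S.pt 1 [2, 3, 0, 1]) := 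
  S.flip (e51_3 S)
theorem e52_3 : S.op (S.f 3) (S.pt 1 [2, 3, 0, 2]) = (S.pt 0 [3, 2, 1, 3, 2]) := 
  S.deduce (i := (3, [])) (j := (1, [2, 3, 0, 2]))
    (pre := []) (g := 3) (suf := [2, 0, 3, 2, 1, 2, 3, 0, 2]) rfl
    (QG.Chain.nil S (S.pt 1 [2, 3, 0, 2]))
    (QG.Chain.cons (e3_2 S) (QG.Chain.cons (e9_0 S) (QG.Chain.cons (e20_3 S) (QG.Chain.cons (e15_2 S) (QG.Chain.cons (e6_1 S) (QG.Chain.cons (e14_2 S) (QG.Chain.cons (e26_3 S) (QG.Chain.cons (e46_0 S) (QG.Chain.cons (e48_2 S) (QG.Chain.nil S (S.pt 0 [3, 2, 1, 3, 2])))))))))))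
theorem e72_3 : S.op (S.f 3) (S.pt 0 [3, 2, 1, 3, 2]) = (S.pt 1 [2, 3, 0, 2]) := 
  S.flip (e52_3 S)
theorem e76_2 : S.op (S.f 2) (S.pt 0 [1, 2, 3, 1, 2, 3]) = (S.pt 0 [3, 1, 2, 3, 1]) := 
  S.deduce (i := (3, [])) (j := (0, [1, 2, 3, 1, 2]))
    (pre := [3]) (g := 2) (suf := [1, 3, 2, 1, 0, 1, 2, 3, 1, 2]) rfl
    (QG.Chain.cons (e62_3 S) (QG.Chain.nil S (S.pt 0 [1, 2, 3, 1, 2, 3])))
    (QG.Chain.cons (e3_2 S) (QG.Chain.cons (e9_1 S) (QG.Chain.cons (e21_3 S) (QG.Chain.cons (e19_2 S) (QG.Chain.cons (e8_1 S) (QG.Chain.cons (e3_0 S) (QG.Chain.cons (e6_1 S) (QG.Chain.cons (e14_2 S) (QG.Chain.cons (e26_3 S) (QG.Chain.cons (e46_1 S) (QG.Chain.nil S (S.pt 0 [3, 1, 2, 3, 1]))))))))))))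
theorem e70_2 : S.op (S.f 2) (S.pt 0 [3, 1, 2, 3, 1]) = (S.pt 0 [1, 2, 3, 1, 2, 3]) := 
  S.flip (e76_2 S)
theorem e64_1 : S.op (S.f 1) (S.pt 0 [1, 3, 2, 1, 3]) = (S.pt 2 [3, 1, 0, 3]) := 
  S.deduce (i := (3, [])) (j := (0, [1, 3, 2, 1, 3]))
    (pre := [3, 3]) (g := 1) (suf := [2, 3, 1, 0, 1, 3, 2, 1, 3]) rfl
    (QG.Chain.cons (e64_3 S) (QG.Chain.cons (e38_3 S) (QG.Chain.nil S (S.pt 0 [1, 3, 2, 1, 3]))))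
    (QG.Chain.cons (e3_3 S) (QG.Chain.cons (e3_1 S) (QG.Chain.cons (e8_2 S) (QG.Chain.cons (e19_3 S) (QG.Chain.cons (e21_1 S) (QG.Chain.cons (e9_0 S) (QG.Chain.cons (e20_1 S) (QG.Chain.cons (e32_3 S) (QG.Chain.cons (e58_2 S) (QG.Chain.nil S (S.pt 2 [3, 1, 0, 3])))))))))))
theorem e60_1 : S.op (S.f 1) (S.pt 2 [3, 1, 0, 3]) = (S.pt 0 [1, 3, 2, 1, 3]) := 
  S.flip (e64_1 S)
theorem e80_1 : S.op (S.f 1) (S.pt 0 [1, 3, 2, 1, 3, 2]) = (S.pt 0 [3, 2, 1, 3, 2]) := 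
  S.deduce (i := (3, [])) (j := (0, [2, 1, 3, 2, 1]))
    (pre := [3]) (g := 1) (suf := [2, 3, 1, 2, 0, 2, 1, 3, 2, 1]) rfl
    (QG.Chain.cons (e66_3 S) (QG.Chain.nil S (S.pt 0 [1, 3, 2, 1, 3, 2])))
    (QG.Chain.cons (e3_1 S) (QG.Chain.cons (e8_2 S) (QG.Chain.cons (e19_3 S) (QG.Chain.cons (e21_1 S) (QG.Chain.cons (e9_2 S) (QG.Chain.cons (e3_0 S) (QG.Chain.cons (e6_2 S) (QG.Chain.cons (e15_1 S) (QG.Chain.cons (e27_3 S) (QG.Chain.cons (e48_2 S) (QG.Chain.nil S (S.pt 0 [3, 2, 1, 3, 2]))))))))))))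
theorem e72_1 : S.op (S.f 1) (S.pt 0 [3, 2, 1, 3, 2]) = (S.pt 0 [1, 3, 2, 1, 3, 2]) := 
  S.flip (e80_1 S)
theorem e78_3 : S.op (S.f 3) (S.pt 0 [1, 3, 2, 0, 3, 2]) = (S.pt 0 [3, 2, 1, 0, 2]) := 
  S.deduce (i := (3, [])) (j := (0, [1, 3, 2, 0, 3, 2]))
    (pre := []) (g := 3) (suf := [2, 3, 0, 2, 3, 1, 0, 1, 3, 2, 0, 3, 2]) rfl
    (QG.Chain.nil S (S.pt 0 [1, 3, 2, 0, 3, 2]))
    (QG.Chain.cons (e3_2 S) (QG.Chain.cons (e9_3 S) (QG.Chain.cons (e2_0 S) (QG.Chain.cons (e5_2 S) (QG.Chain.cons (e0_3 S) (QG.Chain.cons (e6_1 S) (QG.Chain.cons (e14_0 S) (QG.Chain.cons (e11_1 S) (QG.Chain.cons (e18_3 S) (QG.Chain.cons (e14_2 S) (QG.Chain.cons (e26_0 S) (QG.Chain.cons (e44_3 S) (QG.Chain.cons (e47_2 S) (QG.Chain.nil S (S.pt 0 [3, 2, 1, 0, 2])))))))))))))))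
theorem e71_3 : S.op (S.f 3) (S.pt 0 [3, 2, 1, 0, 2]) = (S.pt 0 [1, 3, 2, 0, 3, 2]) := 
  S.flip (e78_3 S)
theorem e42_1 : S.op (S.f 1) (S.pt 0 [2, 3, 1, 0]) = (S.pt 0 [3, 2, 1, 0]) := 
  S.deduce (i := (0, [1])) (j := (0, [2, 3]))
    (pre := [1, 0]) (g := 1) (suf := [3, 2, 0, 2, 3]) rfl
    (QG.Chain.cons (e13_1 S) (QG.Chain.cons (e25_0 S) (QG.Chain.nil S (S.pt 0 [2, 3, 1, 0]))))
    (QG.Chain.cons (e4_3 S) (QG.Chain.cons (e11_2 S) (QG.Chain.cons (e23_0 S) (QG.Chain.cons (e37_2 S) (QG.Chain.cons (e44_3 S) (QG.Chain.nil S (S.pt 0 [3, 2, 1, 0])))))))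
theorem e47_1 : S.op (S.f 1) (S.pt 0 [3, 2, 1, 0]) = (S.pt 0 [2, 3, 1, 0]) := 
  S.flip (e42_1 S)
theorem e42_2 : S.op (S.f 2) (S.pt 0 [2, 3, 1, 0]) = (S.pt 0 [2, 1, 3, 0]) := 
  S.deduce (i := (0, [1])) (j := (0, [3, 2]))
    (pre := [1, 0, 1]) (g := 2) (suf := [3, 0, 3, 2]) rfl
    (QG.Chain.cons (e15_1 S) (QG.Chain.cons (e27_0 S) (QG.Chain.cons (e47_1 S) (QG.Chain.nil S (S.pt 0 [2, 3, 1, 0])))))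
    (QG.Chain.cons (e4_2 S) (QG.Chain.cons (e10_3 S) (QG.Chain.cons (e22_0 S) (QG.Chain.cons (e34_3 S) (QG.Chain.nil S (S.pt 0 [2, 1, 3, 0]))))))
theorem e39_2 : S.op (S.f 2) (S.pt 0 [2, 1, 3, 0]) = (S.pt 0 [2, 3, 1, 0]) := 
  S.flip (e42_2 S)
theorem e55_3 : S.op (S.f 3) (S.pt 1 [3, 2, 0, 1]) = (S.pt 1 [3, 0, 2, 1]) := 
  S.deduce (i := (0, [1])) (j := (1, [2, 3]))
    (pre := [1, 0, 1]) (g := 3) (suf := [2, 1, 2, 3]) rfl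
    (QG.Chain.cons (e17_1 S) (QG.Chain.cons (e19_0 S) (QG.Chain.cons (e31_1 S) (QG.Chain.nil S (S.pt 1 [3, 2, 0, 1])))))
    (QG.Chain.cons (e4_3 S) (QG.Chain.cons (e11_2 S) (QG.Chain.cons (e23_1 S) (QG.Chain.cons (e38_2 S) (QG.Chain.nil S (S.pt 1 [3, 0, 2, 1]))))))
theorem e53_3 : S.op (S.f 3) (S.pt 1 [3, 0, 2, 1]) = (S.pt 1 [3, 2, 0, 1]) := 
  S.flip (e55_3 S)
theorem e32_0 : S.op (S.f 0) (S.pt 2 [3, 0, 1]) = (S.pt 0 [1, 2, 3, 2]) := 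
  S.deduce (i := (0, [1])) (j := (2, [3, 0]))
    (pre := [1]) (g := 0) (suf := [1, 0, 3, 2, 3, 0]) rfl
    (QG.Chain.cons (e20_1 S) (QG.Chain.nil S (S.pt 2 [3, 0, 1])))
    (QG.Chain.cons (e4_0 S) (QG.Chain.cons (e1_3 S) (QG.Chain.cons (e8_2 S) (QG.Chain.cons (e19_3 S) (QG.Chain.cons (e21_0 S) (QG.Chain.cons (e33_1 S) (QG.Chain.nil S (S.pt 0 [1, 2, 3, 2]))))))))
theorem e36_0 : S.op (S.f 0) (S.pt 0 [1, 2, 3, 2]) = (S.pt 2 [3, 0, 1]) := 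
  S.flip (e32_0 S)
theorem e49_0 : S.op (S.f 0) (S.pt 1 [2, 0, 3, 1]) = (S.pt 0 [3, 1, 2, 0, 1]) := 
  S.deduce (i := (0, [1])) (j := (1, [2, 0, 3]))
    (pre := [1]) (g := 0) (suf := [1, 3, 0, 2, 1, 2, 0, 3]) rfl
    (QG.Chain.cons (e28_1 S) (QG.Chain.nil S (S.pt 1 [2, 0, 3, 1])))
    (QG.Chain.cons (e4_3 S) (QG.Chain.cons (e11_0 S) (QG.Chain.cons (e14_2 S) (QG.Chain.cons (e26_1 S) (QG.Chain.cons (e45_2 S) (QG.Chain.cons (e27_0 S) (QG.Chain.cons (e47_3 S) (QG.Chain.cons (e44_1 S) (QG.Chain.nil S (S.pt 0 [3, 1, 2, 0, 1]))))))))))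
theorem e69_0 : S.op (S.f 0) (S.pt 0 [3, 1, 2, 0, 1]) = (S.pt 1 [2, 0, 3, 1]) := 
  S.flip (e49_0 S)
theorem e51_0 : S.op (S.f 0) (S.pt 1 [2, 3, 0, 1]) = (S.pt 1 [3, 2, 0, 1]) := 
  S.deduce (i := (0, [1])) (j := (1, [2, 3, 0]))
    (pre := [1]) (g := 0) (suf := [1, 0, 3, 2, 1, 2, 3, 0]) rfl
    (QG.Chain.cons (e29_1 S) (QG.Chain.nil S (S.pt 1 [2, 3, 0, 1])))
    (QG.Chain.cons (e4_0 S) (QG.Chain.cons (e1_3 S) (QG.Chain.cons (e8_2 S) (QG.Chain.cons (e19_1 S) (QG.Chain.cons (e17_2 S) (QG.Chain.cons (e21_3 S) (QG.Chain.cons (e19_0 S) (QG.Chain.cons (e31_1 S) (QG.Chain.nil S (S.pt 1 [3, 2, 0, 1]))))))))))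
theorem e55_0 : S.op (S.f 0) (S.pt 1 [3, 2, 0, 1]) = (S.pt 1 [2, 3, 0, 1]) := 
  S.flip (e51_0 S)
theorem e53_0 : S.op (S.f 0) (S.pt 1 [3, 0, 2, 1]) = (S.pt 0 [2, 1, 3, 0, 1]) := 
  S.deduce (i := (0, [1])) (j := (1, [3, 0, 2]))
    (pre := [1]) (g := 0) (suf := [1, 2, 0, 3, 1, 3, 0, 2]) rfl
    (QG.Chain.cons (e30_1 S) (QG.Chain.nil S (S.pt 1 [3, 0, 2, 1])))
    (QG.Chain.cons (e4_2 S) (QG.Chain.cons (e10_0 S) (QG.Chain.cons (e12_3 S) (QG.Chain.cons (e24_1 S) (QG.Chain.cons (e40_3 S) (QG.Chain.cons (e25_0 S) (QG.Chain.cons (e42_2 S) (QG.Chain.cons (e39_1 S) (QG.Chain.nil S (S.pt 0 [2, 1, 3, 0, 1]))))))))))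
theorem e65_0 : S.op (S.f 0) (S.pt 0 [2, 1, 3, 0, 1]) = (S.pt 1 [3, 0, 2, 1]) := 
  S.flip (e53_0 S)
theorem e30_0 : S.op (S.f 0) (S.pt 1 [3, 0, 2]) = (S.pt 0 [2, 1, 3, 1]) := 
  S.deduce (i := (0, [1])) (j := (0, [2, 1, 3, 0]))
    (pre := [1, 0, 1]) (g := 0) (suf := [3, 1, 2, 0, 2, 1, 3, 0]) rfl
    (QG.Chain.cons (e39_1 S) (QG.Chain.cons (e65_0 S) (QG.Chain.cons (e53_1 S) (QG.Chain.nil S (S.pt 1 [3, 0, 2])))))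
    (QG.Chain.cons (e4_0 S) (QG.Chain.cons (e1_3 S) (QG.Chain.cons (e8_1 S) (QG.Chain.cons (e3_2 S) (QG.Chain.cons (e9_0 S) (QG.Chain.cons (e20_2 S) (QG.Chain.cons (e13_1 S) (QG.Chain.cons (e25_3 S) (QG.Chain.nil S (S.pt 0 [2, 1, 3, 1]))))))))))
theorem e40_0 : S.op (S.f 0) (S.pt 0 [2, 1, 3, 1]) = (S.pt 1 [3, 0, 2]) := 
  S.flip (e30_0 S)
theorem e34_1 : S.op (S.f 1) (S.pt 0 [1, 2, 3, 0]) = (S.pt 0 [1, 3, 2, 0]) := 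
  S.deduce (i := (0, [1])) (j := (0, [2, 1, 3, 1]))
    (pre := [1, 0, 1, 1, 3]) (g := 1) (suf := [2, 0, 2, 1, 3, 1]) rfl
    (QG.Chain.cons (e40_1 S) (QG.Chain.cons (e24_0 S) (QG.Chain.cons (e39_1 S) (QG.Chain.cons (e65_1 S) (QG.Chain.cons (e39_3 S) (QG.Chain.nil S (S.pt 0 [1, 2, 3, 0])))))))
    (QG.Chain.cons (e4_1 S) (QG.Chain.cons (e0_3 S) (QG.Chain.cons (e6_1 S) (QG.Chain.cons (e14_2 S) (QG.Chain.cons (e26_0 S) (QG.Chain.cons (e44_2 S) (QG.Chain.nil S (S.pt 0 [1, 3, 2, 0]))))))))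
theorem e37_1 : S.op (S.f 1) (S.pt 0 [1, 3, 2, 0]) = (S.pt 0 [1, 2, 3, 0]) := 
  S.flip (e34_1 S)
theorem e65_3 : S.op (S.f 3) (S.pt 0 [2, 1, 3, 0, 1]) = (S.pt 0 [1, 3, 2, 0, 3, 1]) := 
  S.deduce (i := (0, [1])) (j := (1, [3, 0, 2, 3]))
    (pre := [1, 0, 1, 3, 2, 0]) (g := 3) (suf := [1, 3, 0, 2, 3]) rfl
    (QG.Chain.cons (e54_1 S) (QG.Chain.cons (e56_0 S) (QG.Chain.cons (e60_1 S) (QG.Chain.cons (e64_3 S) (QG.Chain.cons (e38_2 S) (QG.Chain.cons (e53_0 S) (QG.Chain.nil S (S.pt 0 [2, 1, 3, 0, 1]))))))))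
    (QG.Chain.cons (e4_3 S) (QG.Chain.cons (e11_2 S) (QG.Chain.cons (e23_0 S) (QG.Chain.cons (e37_3 S) (QG.Chain.cons (e63_1 S) (QG.Chain.nil S (S.pt 0 [1, 3, 2, 0, 3, 1])))))))
theorem e77_3 : S.op (S.f 3) (S.pt 0 [1, 3, 2, 0, 3, 1]) = (S.pt 0 [2, 1, 3, 0, 1]) := 
  S.flip (e65_3 S)
theorem e79_1 : S.op (S.f 1) (S.pt 0 [1, 3, 2, 1, 3, 0]) = (S.pt 0 [2, 3, 1, 0, 3]) := 
  S.deduce (i := (0, [1])) (j := (2, [3, 1, 0, 3]))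
    (pre := [1, 0]) (g := 1) (suf := [3, 0, 1, 3, 2, 3, 1, 0, 3]) rfl
    (QG.Chain.cons (e60_1 S) (QG.Chain.cons (e64_0 S) (QG.Chain.nil S (S.pt 0 [1, 3, 2, 1, 3, 0]))))
    (QG.Chain.cons (e4_3 S) (QG.Chain.cons (e11_0 S) (QG.Chain.cons (e14_1 S) (QG.Chain.cons (e6_3 S) (QG.Chain.cons (e0_2 S) (QG.Chain.cons (e5_3 S) (QG.Chain.cons (e13_1 S) (QG.Chain.cons (e25_0 S) (QG.Chain.cons (e42_3 S) (QG.Chain.nil S (S.pt 0 [2, 3, 1, 0, 3])))))))))))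
theorem e67_1 : S.op (S.f 1) (S.pt 0 [2, 3, 1, 0, 3]) = (S.pt 0 [1, 3, 2, 1, 3, 0]) := 
  S.flip (e79_1 S)
theorem e63_0 : S.op (S.f 0) (S.pt 0 [1, 3, 2, 0, 3]) = (S.pt 2 [3, 0, 1, 3]) := 
  S.deduce (i := (0, [1])) (j := (0, [1, 3, 2, 0, 3, 1]))
    (pre := [1]) (g := 0) (suf := [1, 1, 3, 0, 2, 3, 1, 0, 1, 3, 2, 0, 3, 1]) rfl
    (QG.Chain.cons (e77_1 S) (QG.Chain.nil S (S.pt 0 [1, 3, 2, 0, 3])))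
    (QG.Chain.cons (e4_1 S) (QG.Chain.cons (e0_3 S) (QG.Chain.cons (e6_0 S) (QG.Chain.cons (e3_2 S) (QG.Chain.cons (e9_3 S) (QG.Chain.cons (e2_1 S) (QG.Chain.cons (e7_0 S) (QG.Chain.cons (e16_1 S) (QG.Chain.cons (e10_3 S) (QG.Chain.cons (e22_2 S) (QG.Chain.cons (e36_0 S) (QG.Chain.cons (e32_3 S) (QG.Chain.cons (e58_1 S) (QG.Chain.cons (e48_1 S) (QG.Chain.nil S (S.pt 2 [3, 0, 1, 3]))))))))))))))))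
theorem e58_0 : S.op (S.f 0) (S.pt 2 [3, 0, 1, 3]) = (S.pt 0 [1, 3, 2, 0, 3]) := 
  S.flip (e63_0 S)
theorem e67_0 : S.op (S.f 0) (S.pt 0 [2, 3, 1, 0, 3]) = (S.pt 1 [3, 0, 2, 3]) := 
  S.deduce (i := (0, [1])) (j := (0, [1, 3, 2, 1, 3, 0]))
    (pre := [1]) (g := 0) (suf := [1, 0, 3, 1, 2, 3, 1, 0, 1, 3, 2, 1, 3, 0]) rfl
    (QG.Chain.cons (e79_1 S) (QG.Chain.nil S (S.pt 0 [2, 3, 1, 0, 3])))
    (QG.Chain.cons (e4_0 S) (QG.Chain.cons (e1_3 S) (QG.Chain.cons (e8_1 S) (QG.Chain.cons (e3_2 S) (QG.Chain.cons (e9_3 S) (QG.Chain.cons (e2_1 S) (QG.Chain.cons (e7_0 S) (QG.Chain.cons (e16_1 S) (QG.Chain.cons (e10_3 S) (QG.Chain.cons (e22_2 S) (QG.Chain.cons (e36_1 S) (QG.Chain.cons (e33_3 S) (QG.Chain.cons (e60_0 S) (QG.Chain.cons (e56_1 S) (QG.Chain.nil S (S.pt 1 [3, 0, 2, 3]))))))))))))))))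
theorem e54_0 : S.op (S.f 0) (S.pt 1 [3, 0, 2, 3]) = (S.pt 0 [2, 3, 1, 0, 3]) := 
  S.flip (e67_0 S)
theorem e59_3 : S.op (S.f 3) (S.pt 2 [3, 1, 0, 2]) = (S.pt 2 [3, 0, 1, 2]) := 
  S.deduce (i := (0, [2])) (j := (1, [2, 3]))
    (pre := [2, 0, 2]) (g := 3) (suf := [2, 1, 2, 3]) rfl
    (QG.Chain.cons (e17_2 S) (QG.Chain.cons (e21_0 S) (QG.Chain.cons (e33_2 S) (QG.Chain.nil S (S.pt 2 [3, 1, 0, 2])))))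
    (QG.Chain.cons (e5_3 S) (QG.Chain.cons (e13_2 S) (QG.Chain.cons (e20_1 S) (QG.Chain.cons (e32_2 S) (QG.Chain.nil S (S.pt 2 [3, 0, 1, 2]))))))
theorem e57_3 : S.op (S.f 3) (S.pt 2 [3, 0, 1, 2]) = (S.pt 2 [3, 1, 0, 2]) := 
  S.flip (e59_3 S)
theorem e52_1 : S.op (S.f 1) (S.pt 1 [2, 3, 0, 2]) = (S.pt 1 [2, 0, 3, 2]) := 
  S.deduce (i := (0, [2])) (j := (2, [3, 1]))
    (pre := [2, 0, 2]) (g := 1) (suf := [3, 2, 3, 1]) rfl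
    (QG.Chain.cons (e21_2 S) (QG.Chain.cons (e17_0 S) (QG.Chain.cons (e29_2 S) (QG.Chain.nil S (S.pt 1 [2, 3, 0, 2])))))
    (QG.Chain.cons (e5_1 S) (QG.Chain.cons (e12_3 S) (QG.Chain.cons (e24_2 S) (QG.Chain.cons (e41_3 S) (QG.Chain.nil S (S.pt 1 [2, 0, 3, 2]))))))
theorem e50_1 : S.op (S.f 1) (S.pt 1 [2, 0, 3, 2]) = (S.pt 1 [2, 3, 0, 2]) := 
  S.flip (e52_1 S)
theorem e50_0 : S.op (S.f 0) (S.pt 1 [2, 0, 3, 2]) = (S.pt 0 [3, 2, 1, 0, 2]) := 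
  S.deduce (i := (0, [2])) (j := (1, [2, 0, 3]))
    (pre := [2]) (g := 0) (suf := [2, 3, 0, 2, 1, 2, 0, 3]) rfl
    (QG.Chain.cons (e28_2 S) (QG.Chain.nil S (S.pt 1 [2, 0, 3, 2])))
    (QG.Chain.cons (e5_3 S) (QG.Chain.cons (e13_0 S) (QG.Chain.cons (e15_2 S) (QG.Chain.cons (e6_1 S) (QG.Chain.cons (e14_2 S) (QG.Chain.cons (e26_0 S) (QG.Chain.cons (e44_3 S) (QG.Chain.cons (e47_2 S) (QG.Chain.nil S (S.pt 0 [3, 2, 1, 0, 2]))))))))))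
theorem e71_0 : S.op (S.f 0) (S.pt 0 [3, 2, 1, 0, 2]) = (S.pt 1 [2, 0, 3, 2]) := 
  S.flip (e50_0 S)
theorem e52_0 : S.op (S.f 0) (S.pt 1 [2, 3, 0, 2]) = (S.pt 2 [3, 1, 0, 2]) := 
  S.deduce (i := (0, [2])) (j := (1, [2, 3, 0]))
    (pre := [2]) (g := 0) (suf := [2, 0, 3, 2, 1, 2, 3, 0]) rfl
    (QG.Chain.cons (e29_2 S) (QG.Chain.nil S (S.pt 1 [2, 3, 0, 2])))
    (QG.Chain.cons (e5_0 S) (QG.Chain.cons (e2_3 S) (QG.Chain.cons (e9_2 S) (QG.Chain.cons (e3_1 S) (QG.Chain.cons (e8_2 S) (QG.Chain.cons (e19_3 S) (QG.Chain.cons (e21_0 S) (QG.Chain.cons (e33_2 S) (QG.Chain.nil S (S.pt 2 [3, 1, 0, 2]))))))))))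
theorem e59_0 : S.op (S.f 0) (S.pt 2 [3, 1, 0, 2]) = (S.pt 1 [2, 3, 0, 2]) := 
  S.flip (e52_0 S)
theorem e57_0 : S.op (S.f 0) (S.pt 2 [3, 0, 1, 2]) = (S.pt 0 [1, 2, 3, 0, 2]) := 
  S.deduce (i := (0, [2])) (j := (2, [3, 0, 1]))
    (pre := [2]) (g := 0) (suf := [2, 1, 0, 3, 2, 3, 0, 1]) rfl
    (QG.Chain.cons (e32_2 S) (QG.Chain.nil S (S.pt 2 [3, 0, 1, 2])))
    (QG.Chain.cons (e5_1 S) (QG.Chain.cons (e12_0 S) (QG.Chain.cons (e10_3 S) (QG.Chain.cons (e22_2 S) (QG.Chain.cons (e36_3 S) (QG.Chain.cons (e23_0 S) (QG.Chain.cons (e37_1 S) (QG.Chain.cons (e34_2 S) (QG.Chain.nil S (S.pt 0 [1, 2, 3, 0, 2]))))))))))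
theorem e61_0 : S.op (S.f 0) (S.pt 0 [1, 2, 3, 0, 2]) = (S.pt 2 [3, 0, 1, 2]) := 
  S.flip (e57_0 S)
theorem e43_0 : S.op (S.f 0) (S.pt 0 [2, 3, 1, 2]) = (S.pt 0 [2, 1, 3, 2]) := 
  S.deduce (i := (0, [2])) (j := (0, [2, 1, 3, 0]))
    (pre := [2, 0, 2]) (g := 0) (suf := [3, 1, 2, 0, 2, 1, 3, 0]) rfl
    (QG.Chain.cons (e39_2 S) (QG.Chain.cons (e42_0 S) (QG.Chain.cons (e25_2 S) (QG.Chain.nil S (S.pt 0 [2, 3, 1, 2])))))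
    (QG.Chain.cons (e5_0 S) (QG.Chain.cons (e2_3 S) (QG.Chain.cons (e9_1 S) (QG.Chain.cons (e21_2 S) (QG.Chain.cons (e17_0 S) (QG.Chain.cons (e29_2 S) (QG.Chain.cons (e52_1 S) (QG.Chain.cons (e50_3 S) (QG.Chain.nil S (S.pt 0 [2, 1, 3, 2]))))))))))
theorem e41_0 : S.op (S.f 0) (S.pt 0 [2, 1, 3, 2]) = (S.pt 0 [2, 3, 1, 2]) := 
  S.flip (e43_0 S)
theorem e43_1 : S.op (S.f 1) (S.pt 0 [2, 3, 1, 2]) = (S.pt 2 [3, 0, 1, 2]) := 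
  S.deduce (i := (0, [2])) (j := (0, [2, 3, 1, 0]))
    (pre := [2, 0, 2, 0]) (g := 1) (suf := [3, 2, 0, 2, 3, 1, 0]) rfl
    (QG.Chain.cons (e42_2 S) (QG.Chain.cons (e39_0 S) (QG.Chain.cons (e24_2 S) (QG.Chain.cons (e41_0 S) (QG.Chain.nil S (S.pt 0 [2, 3, 1, 2]))))))
    (QG.Chain.cons (e5_0 S) (QG.Chain.cons (e2_1 S) (QG.Chain.cons (e7_3 S) (QG.Chain.cons (e17_2 S) (QG.Chain.cons (e21_0 S) (QG.Chain.cons (e33_2 S) (QG.Chain.cons (e59_3 S) (QG.Chain.nil S (S.pt 2 [3, 0, 1, 2])))))))))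
theorem e57_1 : S.op (S.f 1) (S.pt 2 [3, 0, 1, 2]) = (S.pt 0 [2, 3, 1, 2]) := 
  S.flip (e43_1 S)
theorem e67_2 : S.op (S.f 2) (S.pt 0 [2, 3, 1, 0, 3]) = (S.pt 0 [1, 2, 3, 0, 2, 3]) := 
  S.deduce (i := (0, [2])) (j := (0, [3, 1, 2, 3]))
    (pre := [2, 0]) (g := 2) (suf := [3, 2, 1, 3, 0, 3, 1, 2, 3]) rfl
    (QG.Chain.cons (e46_2 S) (QG.Chain.cons (e54_0 S) (QG.Chain.nil S (S.pt 0 [2, 3, 1, 0, 3]))))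
    (QG.Chain.cons (e5_3 S) (QG.Chain.cons (e13_2 S) (QG.Chain.cons (e20_1 S) (QG.Chain.cons (e32_3 S) (QG.Chain.cons (e58_0 S) (QG.Chain.cons (e63_3 S) (QG.Chain.cons (e37_1 S) (QG.Chain.cons (e34_2 S) (QG.Chain.cons (e61_3 S) (QG.Chain.nil S (S.pt 0 [1, 2, 3, 0, 2, 3])))))))))))
theorem e74_2 : S.op (S.f 2) (S.pt 0 [1, 2, 3, 0, 2, 3]) = (S.pt 0 [2, 3, 1, 0, 3]) := 
  S.flip (e67_2 S)
theorem e55_2 : S.op (S.f 2) (S.pt 1 [3, 2, 0, 1]) = (S.pt 0 [2, 1, 3, 2, 1]) := 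
  S.deduce (i := (0, [2])) (j := (1, [2, 0, 3, 1]))
    (pre := [2, 0]) (g := 2) (suf := [1, 3, 0, 2, 1, 2, 0, 3, 1]) rfl
    (QG.Chain.cons (e49_2 S) (QG.Chain.cons (e51_0 S) (QG.Chain.nil S (S.pt 1 [3, 2, 0, 1]))))
    (QG.Chain.cons (e5_1 S) (QG.Chain.cons (e12_3 S) (QG.Chain.cons (e24_0 S) (QG.Chain.cons (e39_2 S) (QG.Chain.cons (e42_1 S) (QG.Chain.cons (e47_2 S) (QG.Chain.cons (e71_0 S) (QG.Chain.cons (e50_3 S) (QG.Chain.cons (e41_1 S) (QG.Chain.nil S (S.pt 0 [2, 1, 3, 2, 1])))))))))))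
theorem e66_2 : S.op (S.f 2) (S.pt 0 [2, 1, 3, 2, 1]) = (S.pt 1 [3, 2, 0, 1]) := 
  S.flip (e55_2 S)
theorem e69_2 : S.op (S.f 2) (S.pt 0 [3, 1, 2, 0, 1]) = (S.pt 0 [1, 2, 3, 0, 2, 1]) := 
  S.deduce (i := (0, [2])) (j := (1, [2, 3, 0, 1]))
    (pre := [2, 0]) (g := 2) (suf := [1, 0, 3, 2, 1, 2, 3, 0, 1]) rfl
    (QG.Chain.cons (e51_2 S) (QG.Chain.cons (e49_0 S) (QG.Chain.nil S (S.pt 0 [3, 1, 2, 0, 1]))))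
    (QG.Chain.cons (e5_1 S) (QG.Chain.cons (e12_0 S) (QG.Chain.cons (e10_3 S) (QG.Chain.cons (e22_2 S) (QG.Chain.cons (e36_1 S) (QG.Chain.cons (e33_2 S) (QG.Chain.cons (e59_3 S) (QG.Chain.cons (e57_0 S) (QG.Chain.cons (e61_1 S) (QG.Chain.nil S (S.pt 0 [1, 2, 3, 0, 2, 1])))))))))))
theorem e73_2 : S.op (S.f 2) (S.pt 0 [1, 2, 3, 0, 2, 1]) = (S.pt 0 [3, 1, 2, 0, 1]) := 
  S.flip (e69_2 S)
theorem e66_0 : S.op (S.f 0) (S.pt 0 [2, 1, 3, 2, 1]) = (S.pt 0 [1, 2, 3, 0, 2, 1]) := 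
  S.deduce (i := (0, [2])) (j := (1, [3, 2, 0, 1]))
    (pre := [2]) (g := 0) (suf := [2, 1, 0, 2, 3, 1, 3, 2, 0, 1]) rfl
    (QG.Chain.cons (e55_2 S) (QG.Chain.nil S (S.pt 0 [2, 1, 3, 2, 1])))
    (QG.Chain.cons (e5_1 S) (QG.Chain.cons (e12_0 S) (QG.Chain.cons (e10_2 S) (QG.Chain.cons (e4_3 S) (QG.Chain.cons (e11_1 S) (QG.Chain.cons (e18_3 S) (QG.Chain.cons (e14_2 S) (QG.Chain.cons (e26_0 S) (QG.Chain.cons (e44_1 S) (QG.Chain.cons (e69_2 S) (QG.Chain.nil S (S.pt 0 [1, 2, 3, 0, 2, 1]))))))))))))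
theorem e73_0 : S.op (S.f 0) (S.pt 0 [1, 2, 3, 0, 2, 1]) = (S.pt 0 [2, 1, 3, 2, 1]) := 
  S.flip (e66_0 S)
theorem e68_0 : S.op (S.f 0) (S.pt 0 [2, 3, 1, 2, 3]) = (S.pt 0 [1, 3, 2, 0, 3, 2]) := 
  S.deduce (i := (0, [2])) (j := (1, [3, 2, 0, 3]))
    (pre := [2]) (g := 0) (suf := [2, 3, 0, 2, 3, 1, 3, 2, 0, 3]) rfl
    (QG.Chain.cons (e56_2 S) (QG.Chain.nil S (S.pt 0 [2, 3, 1, 2, 3])))
    (QG.Chain.cons (e5_3 S) (QG.Chain.cons (e13_0 S) (QG.Chain.cons (e15_2 S) (QG.Chain.cons (e6_3 S) (QG.Chain.cons (e0_1 S) (QG.Chain.cons (e4_3 S) (QG.Chain.cons (e11_2 S) (QG.Chain.cons (e23_0 S) (QG.Chain.cons (e37_3 S) (QG.Chain.cons (e63_2 S) (QG.Chain.nil S (S.pt 0 [1, 3, 2, 0, 3, 2]))))))))))))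
theorem e78_0 : S.op (S.f 0) (S.pt 0 [1, 3, 2, 0, 3, 2]) = (S.pt 0 [2, 3, 1, 2, 3]) := 
  S.flip (e68_0 S)
theorem e77_2 : S.op (S.f 2) (S.pt 0 [1, 3, 2, 0, 3, 1]) = (S.pt 0 [1, 3, 2, 1, 3, 0]) := 
  S.deduce (i := (0, [2])) (j := (0, [1, 3, 2, 0, 3, 1]))
    (pre := []) (g := 2) (suf := [0, 2, 1, 3, 0, 2, 3, 1, 0, 1, 3, 2, 0, 3, 1]) rfl
    (QG.Chain.nil S (S.pt 0 [1, 3, 2, 0, 3, 1]))
    (QG.Chain.cons (e5_1 S) (QG.Chain.cons (e12_3 S) (QG.Chain.cons (e24_0 S) (QG.Chain.cons (e39_2 S) (QG.Chain.cons (e42_3 S) (QG.Chain.cons (e67_1 S) (QG.Chain.cons (e79_0 S) (QG.Chain.cons (e64_1 S) (QG.Chain.cons (e60_3 S) (QG.Chain.cons (e33_2 S) (QG.Chain.cons (e59_0 S) (QG.Chain.cons (e52_3 S) (QG.Chain.cons (e72_1 S) (QG.Chain.cons (e80_2 S) (QG.Chain.cons (e64_0 S) (QG.Chain.nil S (S.pt 0 [1, 3,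 2, 1, 3, 0])))))))))))))))))
theorem e79_2 : S.op (S.f 2) (S.pt 0 [1, 3, 2, 1, 3, 0]) = (S.pt 0 [1, 3, 2, 0, 3, 1]) := 
  S.flip (e77_2 S)
theorem e69_3 : S.op (S.f 3) (S.pt 0 [3, 1, 2, 0, 1]) = (S.pt 0 [1, 3, 2, 1, 3, 0]) := 
  S.deduce (i := (0, [3])) (j := (0, [1, 2, 3, 1]))
    (pre := [3, 0]) (g := 3) (suf := [1, 3, 2, 1, 0, 1, 2, 3, 1]) rfl
    (QG.Chain.cons (e35_3 S) (QG.Chain.cons (e49_0 S) (QG.Chain.nil S (S.pt 0 [3, 1, 2, 0, 1]))))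
    (QG.Chain.cons (e6_1 S) (QG.Chain.cons (e14_3 S) (QG.Chain.cons (e18_2 S) (QG.Chain.cons (e30_1 S) (QG.Chain.cons (e53_0 S) (QG.Chain.cons (e65_1 S) (QG.Chain.cons (e39_2 S) (QG.Chain.cons (e42_3 S) (QG.Chain.cons (e67_1 S) (QG.Chain.nil S (S.pt 0 [1, 3, 2, 1, 3, 0])))))))))))
theorem e79_3 : S.op (S.f 3) (S.pt 0 [1, 3, 2, 1, 3, 0]) = (S.pt 0 [3, 1, 2, 0, 1]) := 
  S.flip (e69_3 S)
theorem e77_0 : S.op (S.f 0) (S.pt 0 [1, 3, 2, 0, 3, 1]) = (S.pt 0 [3, 1, 2, 3, 1]) := 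
  S.deduce (i := (0, [3])) (j := (0, [1, 3, 2, 1]))
    (pre := [3, 0, 3, 1, 2, 3, 1]) (g := 0) (suf := [1, 3, 2, 1]) rfl
    (QG.Chain.cons (e38_3 S) (QG.Chain.cons (e64_0 S) (QG.Chain.cons (e79_3 S) (QG.Chain.cons (e69_1 S) (QG.Chain.cons (e44_2 S) (QG.Chain.cons (e37_3 S) (QG.Chain.cons (e63_1 S) (QG.Chain.nil S (S.pt 0 [1, 3, 2, 0, 3, 1])))))))))
    (QG.Chain.cons (e6_1 S) (QG.Chain.cons (e14_2 S) (QG.Chain.cons (e26_3 S) (QG.Chain.cons (e46_1 S) (QG.Chain.nil S (S.pt 0 [3, 1, 2, 3, 1]))))))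
theorem e70_0 : S.op (S.f 0) (S.pt 0 [3, 1, 2, 3, 1]) = (S.pt 0 [1, 3, 2, 0, 3, 1]) := 
  S.flip (e77_0 S)
theorem e74_0 : S.op (S.f 0) (S.pt 0 [1, 2, 3, 0, 2, 3]) = (S.pt 0 [3, 2, 1, 3, 2]) := 
  S.deduce (i := (0, [3])) (j := (0, [2, 3, 1, 2]))
    (pre := [3, 0, 3, 2, 1, 3, 2]) (g := 0) (suf := [2, 3, 1, 2]) rfl
    (QG.Chain.cons (e43_3 S) (QG.Chain.cons (e68_0 S) (QG.Chain.cons (e78_3 S) (QG.Chain.cons (e71_2 S) (QG.Chain.cons (e47_1 S) (QG.Chain.cons (e42_3 S) (QG.Chain.cons (e67_2 S) (QG.Chain.nil S (S.pt 0 [1, 2, 3, 0, 2, 3])))))))))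
    (QG.Chain.cons (e6_2 S) (QG.Chain.cons (e15_1 S) (QG.Chain.cons (e27_3 S) (QG.Chain.cons (e48_2 S) (QG.Chain.nil S (S.pt 0 [3, 2, 1, 3, 2]))))))
theorem e72_0 : S.op (S.f 0) (S.pt 0 [3, 2, 1, 3, 2]) = (S.pt 0 [1, 2, 3, 0, 2, 3]) := 
  S.flip (e74_0 S)
theorem e35_0 : S.op (S.f 0) (S.pt 0 [1, 2, 3, 1]) = (S.pt 0 [1, 3, 2, 1]) := 
  S.deduce (i := (0, [3])) (j := (1, [2, 0, 3, 1]))
    (pre := [3]) (g := 0) (suf := [3, 1, 3, 0, 2, 1, 2, 0, 3, 1]) rfl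
    (QG.Chain.cons (e49_3 S) (QG.Chain.nil S (S.pt 0 [1, 2, 3, 1])))
    (QG.Chain.cons (e6_1 S) (QG.Chain.cons (e14_3 S) (QG.Chain.cons (e18_0 S) (QG.Chain.cons (e8_2 S) (QG.Chain.cons (e19_1 S) (QG.Chain.cons (e17_2 S) (QG.Chain.cons (e21_0 S) (QG.Chain.cons (e33_3 S) (QG.Chain.cons (e60_1 S) (QG.Chain.cons (e64_3 S) (QG.Chain.nil S (S.pt 0 [1, 3, 2, 1]))))))))))))
theorem e38_0 : S.op (S.f 0) (S.pt 0 [1, 3, 2, 1]) = (S.pt 0 [1, 2, 3, 1]) := 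
  S.flip (e35_0 S)
theorem e59_1 : S.op (S.f 1) (S.pt 2 [3, 1, 0, 2]) = (S.pt 0 [1, 2, 3, 1, 2]) := 
  S.deduce (i := (1, [2])) (j := (2, [3, 1, 0]))
    (pre := [2]) (g := 1) (suf := [2, 0, 1, 3, 2, 3, 1, 0]) rfl
    (QG.Chain.cons (e33_2 S) (QG.Chain.nil S (S.pt 2 [3, 1, 0, 2])))
    (QG.Chain.cons (e7_0 S) (QG.Chain.cons (e16_1 S) (QG.Chain.cons (e10_3 S) (QG.Chain.cons (e22_2 S) (QG.Chain.cons (e36_3 S) (QG.Chain.cons (e23_1 S) (QG.Chain.cons (e38_0 S) (QG.Chain.cons (e35_2 S) (QG.Chain.nil S (S.pt 0 [1, 2, 3, 1, 2]))))))))))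
theorem e62_1 : S.op (S.f 1) (S.pt 0 [1, 2, 3, 1, 2]) = (S.pt 2 [3, 1, 0, 2]) := 
  S.flip (e59_1 S)
theorem e65_2 : S.op (S.f 2) (S.pt 0 [2, 1, 3, 0, 1]) = (S.pt 0 [1, 2, 3, 1, 2, 0]) := 
  S.deduce (i := (1, [2])) (j := (0, [2, 3, 1, 0]))
    (pre := [2, 1]) (g := 2) (suf := [0, 1, 3, 2, 0, 2, 3, 1, 0]) rfl
    (QG.Chain.cons (e42_2 S) (QG.Chain.cons (e39_1 S) (QG.Chain.nil S (S.pt 0 [2, 1, 3, 0, 1]))))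
    (QG.Chain.cons (e7_0 S) (QG.Chain.cons (e16_1 S) (QG.Chain.cons (e10_3 S) (QG.Chain.cons (e22_2 S) (QG.Chain.cons (e36_0 S) (QG.Chain.cons (e32_2 S) (QG.Chain.cons (e57_3 S) (QG.Chain.cons (e59_1 S) (QG.Chain.cons (e62_0 S) (QG.Chain.nil S (S.pt 0 [1, 2, 3, 1, 2, 0])))))))))))
theorem e75_2 : S.op (S.f 2) (S.pt 0 [1, 2, 3, 1, 2, 0]) = (S.pt 0 [2, 1, 3, 0, 1]) := 
  S.flip (e65_2 S)
theorem e71_1 : S.op (S.f 1) (S.pt 0 [3, 2, 1, 0, 2]) = (S.pt 0 [1, 2, 3, 1, 2, 0]) := 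
  S.deduce (i := (1, [2])) (j := (0, [3, 2, 1, 0]))
    (pre := [2]) (g := 1) (suf := [2, 0, 1, 2, 3, 0, 3, 2, 1, 0]) rfl
    (QG.Chain.cons (e47_2 S) (QG.Chain.nil S (S.pt 0 [3, 2, 1, 0, 2])))
    (QG.Chain.cons (e7_0 S) (QG.Chain.cons (e16_1 S) (QG.Chain.cons (e10_2 S) (QG.Chain.cons (e4_3 S) (QG.Chain.cons (e11_0 S) (QG.Chain.cons (e14_3 S) (QG.Chain.cons (e18_2 S) (QG.Chain.cons (e30_1 S) (QG.Chain.cons (e53_0 S) (QG.Chain.cons (e65_2 S) (QG.Chain.nil S (S.pt 0 [1, 2, 3, 1, 2, 0]))))))))))))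
theorem e75_1 : S.op (S.f 1) (S.pt 0 [1, 2, 3, 1, 2, 0]) = (S.pt 0 [3, 2, 1, 0, 2]) := 
  S.flip (e71_1 S)
theorem e68_1 : S.op (S.f 1) (S.pt 0 [2, 3, 1, 2, 3]) = (S.pt 0 [1, 2, 3, 1, 2, 3]) := 
  S.deduce (i := (1, [2])) (j := (1, [3, 2, 0, 3]))
    (pre := [2]) (g := 1) (suf := [2, 3, 0, 2, 3, 1, 3, 2, 0, 3]) rfl
    (QG.Chain.cons (e56_2 S) (QG.Chain.nil S (S.pt 0 [2, 3, 1, 2, 3])))
    (QG.Chain.cons (e7_3 S) (QG.Chain.cons (e17_0 S) (QG.Chain.cons (e29_2 S) (QG.Chain.cons (e52_3 S) (QG.Chain.cons (e72_1 S) (QG.Chain.cons (e80_3 S) (QG.Chain.cons (e66_2 S) (QG.Chain.cons (e55_0 S) (QG.Chain.cons (e51_3 S) (QG.Chain.cons (e70_2 S) (QG.Chain.nil S (S.pt 0 [1, 2, 3, 1, 2, 3]))))))))))))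
theorem e76_1 : S.op (S.f 1) (S.pt 0 [1, 2, 3, 1, 2, 3]) = (S.pt 0 [2, 3, 1, 2, 3]) := 
  S.flip (e68_1 S)
theorem e74_1 : S.op (S.f 1) (S.pt 0 [1, 2, 3, 0, 2, 3]) = (S.pt 0 [1, 3, 2, 0, 3, 2]) := 
  S.deduce (i := (1, [2])) (j := (0, [1, 3, 2, 0, 3, 1]))
    (pre := [2, 1, 2]) (g := 1) (suf := [3, 0, 2, 3, 1, 0, 1, 3, 2, 0, 3, 1]) rfl
    (QG.Chain.cons (e77_2 S) (QG.Chain.cons (e79_1 S) (QG.Chain.cons (e67_2 S) (QG.Chain.nil S (S.pt 0 [1, 2, 3, 0, 2, 3])))))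
    (QG.Chain.cons (e7_1 S) (QG.Chain.cons (e2_3 S) (QG.Chain.cons (e9_0 S) (QG.Chain.cons (e20_2 S) (QG.Chain.cons (e13_3 S) (QG.Chain.cons (e5_1 S) (QG.Chain.cons (e12_0 S) (QG.Chain.cons (e10_1 S) (QG.Chain.cons (e16_3 S) (QG.Chain.cons (e28_2 S) (QG.Chain.cons (e50_0 S) (QG.Chain.cons (e71_3 S) (QG.Chain.nil S (S.pt 0 [1, 3, 2, 0, 3, 2]))))))))))))))
theorem e78_1 : S.op (S.f 1) (S.pt 0 [1, 3, 2, 0, 3, 2]) = (S.pt 0 [1, 2, 3, 0, 2, 3]) := 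
  S.flip (e74_1 S)
theorem e80_0 : S.op (S.f 0) (S.pt 0 [1, 3, 2, 1, 3, 2]) = (S.pt 0 [1, 2, 3, 1, 2, 3]) := 
  S.deduce (i := (1, [3])) (j := (0, [1, 2, 3, 0, 2]))
    (pre := [3, 1, 3, 2, 0, 3, 2, 1]) (g := 0) (suf := [1, 2, 3, 0, 2]) rfl
    (QG.Chain.cons (e61_3 S) (QG.Chain.cons (e74_1 S) (QG.Chain.cons (e78_3 S) (QG.Chain.cons (e71_2 S) (QG.Chain.cons (e47_0 S) (QG.Chain.cons (e27_3 S) (QG.Chain.cons (e48_2 S) (QG.Chain.cons (e72_1 S) (QG.Chain.nil S (S.pt 0 [1, 3, 2, 1, 3, 2]))))))))))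
    (QG.Chain.cons (e8_2 S) (QG.Chain.cons (e19_0 S) (QG.Chain.cons (e31_3 S) (QG.Chain.cons (e56_2 S) (QG.Chain.cons (e68_1 S) (QG.Chain.nil S (S.pt 0 [1, 2, 3, 1, 2, 3])))))))
theorem e76_0 : S.op (S.f 0) (S.pt 0 [1, 2, 3, 1, 2, 3]) = (S.pt 0 [1, 3, 2, 1, 3, 2]) := 
  S.flip (e80_0 S)
theorem e73_3 : S.op (S.f 3) (S.pt 0 [1, 2, 3, 0, 2, 1]) = (S.pt 0 [1, 2, 3, 1, 2, 0]) := 
  S.deduce (i := (1, [3])) (j := (0, [1, 2, 3, 0, 2, 1]))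
    (pre := []) (g := 3) (suf := [1, 3, 1, 2, 0, 3, 2, 1, 0, 1, 2, 3, 0, 2, 1]) rfl
    (QG.Chain.nil S (S.pt 0 [1, 2, 3, 0, 2, 1]))
    (QG.Chain.cons (e8_1 S) (QG.Chain.cons (e3_2 S) (QG.Chain.cons (e9_0 S) (QG.Chain.cons (e20_3 S) (QG.Chain.cons (e15_2 S) (QG.Chain.cons (e6_1 S) (QG.Chain.cons (e14_0 S) (QG.Chain.cons (e11_1 S) (QG.Chain.cons (e18_2 S) (QG.Chain.cons (e30_3 S) (QG.Chain.cons (e54_0 S) (QG.Chain.cons (e67_2 S) (QG.Chain.cons (e74_1 S) (QG.Chain.cons (e78_3 S) (QG.Chain.cons (e71_1 S) (QG.Chain.nil S (S.pt 0 [1, 2, 3, 1, 2, 0])))))))))))))))))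
theorem e75_3 : S.op (S.f 3) (S.pt 0 [1, 2, 3, 1, 2, 0]) = (S.pt 0 [1, 2, 3, 0, 2, 1]) := 
  S.flip (e73_3 S)
/-- The points, in coordinates adapted to the translation group. -/
def point : Fin 81 → α := ![(S.pt 0 [1, 3, 2, 1, 3, 2]),
  (S.pt 0 []),
  (S.pt 0 [1, 2, 3, 1, 2, 3]),
  (S.pt 0 [1, 2, 3, 1, 2]),
  (S.pt 0 [3]),
  (S.pt 0 [2, 1, 3, 2, 1]),
  (S.pt 0 [1, 2, 3, 0, 2, 1]),
  (S.pt 3 []),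
  (S.pt 0 [1, 2, 3, 1, 2, 0]),
  (S.pt 0 [3, 1, 2, 3, 1]),
  (S.pt 0 [2]),
  (S.pt 0 [1, 3, 2, 1, 3]),
  (S.pt 0 [2, 1, 3, 0, 1]),
  (S.pt 2 [3]),
  (S.pt 0 [3, 1, 2, 0, 1]),
  (S.pt 1 [3, 2, 0, 1]),
  (S.pt 0 [3, 2]),
  (S.pt 0 [1, 2, 3, 1]),
  (S.pt 0 [1, 3, 2, 1, 3, 0]),
  (S.pt 2 []),
  (S.pt 0 [1, 3, 2, 0, 3, 1]),
  (S.pt 0 [1, 3, 2, 1]),
  (S.pt 0 [2, 3]),
  (S.pt 1 [2, 3, 0, 1]),
  (S.pt 1 [2, 0, 3, 1]),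
  (S.pt 2 [3, 0]),
  (S.pt 1 [3, 0, 2, 1]),
  (S.pt 0 [1]),
  (S.pt 0 [3, 2, 1, 3, 2]),
  (S.pt 0 [2, 3, 1, 2, 3]),
  (S.pt 1 [3]),
  (S.pt 0 [1, 2, 3, 0, 2]),
  (S.pt 0 [3, 2, 1, 0, 2]),
  (S.pt 0 [3, 1]),
  (S.pt 2 [3, 1, 0, 2]),
  (S.pt 0 [2, 1, 3, 2]),
  (S.pt 0 [1, 3, 2, 0, 3]),
  (S.pt 1 [2]),
  (S.pt 0 [2, 3, 1, 0, 3]),
  (S.pt 2 [3, 0, 1]),
  (S.pt 1 [2, 0, 3]),
  (S.pt 1 [3, 0, 2]),
  (S.pt 0 [1, 3, 2]),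
  (S.pt 1 [2, 3, 0]),
  (S.pt 0 [2, 3, 1]),
  (S.pt 0 [3, 1, 2, 3]),
  (S.pt 2 [3, 1, 0, 3]),
  (S.pt 0 [2, 1]),
  (S.pt 0 [3, 2, 1]),
  (S.pt 1 [3, 2, 0]),
  (S.pt 0 [1, 2, 3]),
  (S.pt 0 [3, 1, 2, 0]),
  (S.pt 2 [3, 1]),
  (S.pt 0 [2, 1, 3, 0]),
  (S.pt 0 [1, 3, 2, 0, 3, 2]),
  (S.pt 0 [1, 2, 3, 0, 2, 3]),
  (S.pt 1 []),
  (S.pt 0 [2, 3, 1, 2]),
  (S.pt 1 [2, 3, 0, 2]),
  (S.pt 0 [1, 3]),
  (S.pt 1 [2, 0, 3, 2]),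
  (S.pt 2 [3, 0, 1, 2]),
  (S.pt 1 [3, 0]),
  (S.pt 0 [3, 2, 1, 3]),
  (S.pt 0 [1, 2]),
  (S.pt 1 [3, 2, 0, 3]),
  (S.pt 0 [3, 1, 2]),
  (S.pt 0 [2, 1, 3]),
  (S.pt 2 [3, 1, 0]),
  (S.pt 0 [3, 2, 1, 0]),
  (S.pt 0 [1, 2, 3, 0]),
  (S.pt 1 [3, 2]),
  (S.pt 1 [2, 0]),
  (S.pt 2 [3, 0, 1, 3]),
  (S.pt 1 [3, 0, 2, 3]),
  (S.pt 1 [2, 3]),
  (S.pt 0 [1, 3, 2, 0]),
  (S.pt 0 [2, 3, 1, 0]),
  (S.pt 0 [3, 1, 2, 1]),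
  (S.pt 0 [1, 2, 3, 2]),
  (S.pt 0 [2, 1, 3, 1])]
/-- The action of generator 0. -/
def move0 : Fin 81 → Fin 81 := ![2, 1, 0, 8, 7, 6, 5, 4, 3, 20, 19, 18, 26, 25, 24, 23, 22, 21, 11, 10, 9, 17, 16, 15, 14, 13, 12, 56, 55, 54, 62, 61, 60, 59, 58, 57, 73, 72, 74, 79, 78, 80, 76, 75, 77, 63, 65, 64, 69, 71, 70, 66, 68, 67, 29, 28, 27, 35, 34, 33, 32, 31, 30, 45, 47, 46, 51, 53, 52, 48, 50, 49, 37, 36, 38, 43, 42, 44, 40, 39, 41]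
theorem point_move0 : ∀ i : Fin 81, S.op (S.f 0) (point S i) = point S (move0 i) := by
  intro i
  fin_cases i
  · exact e80_0 S
  · exact e0_0 S
  · exact e76_0 S
  · exact e62_0 S
  · exact e6_0 S
  · exact e66_0 S
  · exact e73_0 S
  · exact e3_0 S
  · exact e75_0 S
  · exact e70_0 S
  · exact e5_0 S
  · exact e64_0 S
  · exact e65_0 S
  · exact e9_0 S
  · exact e69_0 S
  · exact e55_0 S
  · exact e15_0 S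
  · exact e35_0 S
  · exact e79_0 S
  · exact e2_0 S
  · exact e77_0 S
  · exact e38_0 S
  · exact e13_0 S
  · exact e51_0 S
  · exact e49_0 S
  · exact e20_0 S
  · exact e53_0 S
  · exact e4_0 S
  · exact e72_0 S
  · exact e68_0 S
  · exact e8_0 S
  · exact e61_0 S
  · exact e71_0 S
  · exact e14_0 S
  · exact e59_0 S
  · exact e41_0 S
  · exact e63_0 S
  · exact e7_0 S
  · exact e67_0 S
  · exact e32_0 S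
  · exact e28_0 S
  · exact e30_0 S
  · exact e23_0 S
  · exact e29_0 S
  · exact e25_0 S
  · exact e46_0 S
  · exact e60_0 S
  · exact e12_0 S
  · exact e27_0 S
  · exact e31_0 S
  · exact e22_0 S
  · exact e44_0 S
  · exact e21_0 S
  · exact e39_0 S
  · exact e78_0 S
  · exact e74_0 S
  · exact e1_0 S
  · exact e43_0 S
  · exact e52_0 S
  · exact e11_0 S
  · exact e50_0 S
  · exact e57_0 S
  · exact e18_0 S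
  · exact e48_0 S
  · exact e10_0 S
  · exact e56_0 S
  · exact e26_0 S
  · exact e24_0 S
  · exact e33_0 S
  · exact e47_0 S
  · exact e34_0 S
  · exact e19_0 S
  · exact e16_0 S
  · exact e58_0 S
  · exact e54_0 S
  · exact e17_0 S
  · exact e37_0 S
  · exact e42_0 S
  · exact e45_0 S
  · exact e36_0 S
  · exact e40_0 S
/-- The action of generator 1. -/
def move1 : Fin 81 → Fin 81 := ![28, 27, 29, 34, 33, 35, 31, 30, 32, 45, 47, 46, 53, 52, 51, 49, 48, 50, 38, 37, 36, 42, 44, 43, 40, 39, 41, 1, 0, 2, 7, 6, 8, 4, 3, 5, 20, 19, 18, 25, 24, 26, 21, 23, 22, 9, 11, 10, 16, 15, 17, 14, 13, 12, 55, 54, 56, 61, 60, 62, 58, 57, 59, 73, 72, 74, 78, 80, 79, 77, 76, 75, 64, 63, 65, 71, 70, 69, 66, 68, 67]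
theorem point_move1 : ∀ i : Fin 81, S.op (S.f 1) (point S i) = point S (move1 i) := by
  intro i
  fin_cases i
  · exact e80_1 S
  · exact e0_1 S
  · exact e76_1 S
  · exact e62_1 S
  · exact e6_1 S
  · exact e66_1 S
  · exact e73_1 S
  · exact e3_1 S
  · exact e75_1 S
  · exact e70_1 S
  · exact e5_1 S
  · exact e64_1 S
  · exact e65_1 S
  · exact e9_1 S
  · exact e69_1 S
  · exact e55_1 S
  · exact e15_1 S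
  · exact e35_1 S
  · exact e79_1 S
  · exact e2_1 S
  · exact e77_1 S
  · exact e38_1 S
  · exact e13_1 S
  · exact e51_1 S
  · exact e49_1 S
  · exact e20_1 S
  · exact e53_1 S
  · exact e4_1 S
  · exact e72_1 S
  · exact e68_1 S
  · exact e8_1 S
  · exact e61_1 S
  · exact e71_1 S
  · exact e14_1 S
  · exact e59_1 S
  · exact e41_1 S
  · exact e63_1 S
  · exact e7_1 S
  · exact e67_1 S
  · exact e32_1 S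
  · exact e28_1 S
  · exact e30_1 S
  · exact e23_1 S
  · exact e29_1 S
  · exact e25_1 S
  · exact e46_1 S
  · exact e60_1 S
  · exact e12_1 S
  · exact e27_1 S
  · exact e31_1 S
  · exact e22_1 S
  · exact e44_1 S
  · exact e21_1 S
  · exact e39_1 S
  · exact e78_1 S
  · exact e74_1 S
  · exact e1_1 S
  · exact e43_1 S
  · exact e52_1 S
  · exact e11_1 S
  · exact e50_1 S
  · exact e57_1 S
  · exact e18_1 S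
  · exact e48_1 S
  · exact e10_1 S
  · exact e56_1 S
  · exact e26_1 S
  · exact e24_1 S
  · exact e33_1 S
  · exact e47_1 S
  · exact e34_1 S
  · exact e19_1 S
  · exact e16_1 S
  · exact e58_1 S
  · exact e54_1 S
  · exact e17_1 S
  · exact e37_1 S
  · exact e42_1 S
  · exact e45_1 S
  · exact e36_1 S
  · exact e40_1 S
/-- The action of generator 2. -/
def move2 : Fin 81 → Fin 81 := ![11, 10, 9, 17, 16, 15, 14, 13, 12, 2, 1, 0, 8, 7, 6, 5, 4, 3, 20, 19, 18, 26, 25, 24, 23, 22, 21, 64, 63, 65, 71, 70, 69, 66, 68, 67, 54, 56, 55, 61, 60, 62, 59, 58, 57, 74, 73, 72, 78, 80, 79, 76, 75, 77, 36, 38, 37, 44, 43, 42, 40, 39, 41, 28, 27, 29, 33, 35, 34, 32, 31, 30, 47, 46, 45, 52, 51, 53, 48, 50, 49]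
theorem point_move2 : ∀ i : Fin 81, S.op (S.f 2) (point S i) = point S (move2 i) := by
  intro i
  fin_cases i
  · exact e80_2 S
  · exact e0_2 S
  · exact e76_2 S
  · exact e62_2 S
  · exact e6_2 S
  · exact e66_2 S
  · exact e73_2 S
  · exact e3_2 S
  · exact e75_2 S
  · exact e70_2 S
  · exact e5_2 S
  · exact e64_2 S
  · exact e65_2 S
  · exact e9_2 S
  · exact e69_2 S
  · exact e55_2 S
  · exact e15_2 S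
  · exact e35_2 S
  · exact e79_2 S
  · exact e2_2 S
  · exact e77_2 S
  · exact e38_2 S
  · exact e13_2 S
  · exact e51_2 S
  · exact e49_2 S
  · exact e20_2 S
  · exact e53_2 S
  · exact e4_2 S
  · exact e72_2 S
  · exact e68_2 S
  · exact e8_2 S
  · exact e61_2 S
  · exact e71_2 S
  · exact e14_2 S
  · exact e59_2 S
  · exact e41_2 S
  · exact e63_2 S
  · exact e7_2 S
  · exact e67_2 S
  · exact e32_2 S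
  · exact e28_2 S
  · exact e30_2 S
  · exact e23_2 S
  · exact e29_2 S
  · exact e25_2 S
  · exact e46_2 S
  · exact e60_2 S
  · exact e12_2 S
  · exact e27_2 S
  · exact e31_2 S
  · exact e22_2 S
  · exact e44_2 S
  · exact e21_2 S
  · exact e39_2 S
  · exact e78_2 S
  · exact e74_2 S
  · exact e1_2 S
  · exact e43_2 S
  · exact e52_2 S
  · exact e11_2 S
  · exact e50_2 S
  · exact e57_2 S
  · exact e18_2 S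
  · exact e48_2 S
  · exact e10_2 S
  · exact e56_2 S
  · exact e26_2 S
  · exact e24_2 S
  · exact e33_2 S
  · exact e47_2 S
  · exact e34_2 S
  · exact e19_2 S
  · exact e16_2 S
  · exact e58_2 S
  · exact e54_2 S
  · exact e17_2 S
  · exact e37_2 S
  · exact e42_2 S
  · exact e45_2 S
  · exact e36_2 S
  · exact e40_2 S
/-- The action of generator 3. -/
def move3 : Fin 81 → Fin 81 := ![5, 4, 3, 2, 1, 0, 8, 7, 6, 23, 22, 21, 20, 19, 18, 26, 25, 24, 14, 13, 12, 11, 10, 9, 17, 16, 15, 59, 58, 57, 56, 55, 54, 62, 61, 60, 76, 75, 77, 73, 72, 74, 79, 78, 80, 66, 68, 67, 63, 65, 64, 69, 71, 70, 32, 31, 30, 29, 28, 27, 35, 34, 33, 48, 50, 49, 45, 47, 46, 51, 53, 52, 40, 39, 41, 37, 36, 38, 43, 42, 44]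
theorem point_move3 : ∀ i : Fin 81, S.op (S.f 3) (point S i) = point S (move3 i) := by
  intro i
  fin_cases i
  · exact e80_3 S
  · exact e0_3 S
  · exact e76_3 S
  · exact e62_3 S
  · exact e6_3 S
  · exact e66_3 S
  · exact e73_3 S
  · exact e3_3 S
  · exact e75_3 S
  · exact e70_3 S
  · exact e5_3 S
  · exact e64_3 S
  · exact e65_3 S
  · exact e9_3 S
  · exact e69_3 S
  · exact e55_3 S
  · exact e15_3 S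
  · exact e35_3 S
  · exact e79_3 S
  · exact e2_3 S
  · exact e77_3 S
  · exact e38_3 S
  · exact e13_3 S
  · exact e51_3 S
  · exact e49_3 S
  · exact e20_3 S
  · exact e53_3 S
  · exact e4_3 S
  · exact e72_3 S
  · exact e68_3 S
  · exact e8_3 S
  · exact e61_3 S
  · exact e71_3 S
  · exact e14_3 S
  · exact e59_3 S
  · exact e41_3 S
  · exact e63_3 S
  · exact e7_3 S
  · exact e67_3 S
  · exact e32_3 S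
  · exact e28_3 S
  · exact e30_3 S
  · exact e23_3 S
  · exact e29_3 S
  · exact e25_3 S
  · exact e46_3 S
  · exact e60_3 S
  · exact e12_3 S
  · exact e27_3 S
  · exact e31_3 S
  · exact e22_3 S
  · exact e44_3 S
  · exact e21_3 S
  · exact e39_3 S
  · exact e78_3 S
  · exact e74_3 S
  · exact e1_3 S
  · exact e43_3 S
  · exact e52_3 S
  · exact e11_3 S
  · exact e50_3 S
  · exact e57_3 S
  · exact e18_3 S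
  · exact e48_3 S
  · exact e10_3 S
  · exact e56_3 S
  · exact e26_3 S
  · exact e24_3 S
  · exact e33_3 S
  · exact e47_3 S
  · exact e34_3 S
  · exact e19_3 S
  · exact e16_3 S
  · exact e58_3 S
  · exact e54_3 S
  · exact e17_3 S
  · exact e37_3 S
  · exact e42_3 S
  · exact e45_3 S
  · exact e36_3 S
  · exact e40_3 S
/-- Coordinates of the four generators. -/
def gen : Fin 4 → Fin 81 := ![1, 56, 19, 7]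
theorem point_gen : ∀ g : Fin 4, point S (gen g) = S.f g
  | 0 => rfl
  | 1 => rfl
  | 2 => rfl
  | 3 => rfl

end Cfsg.Agent.Lib.ThreeTransp.QG.FreeFour
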