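import Mathlib
import Cfsg.Agent.Lib.ThreeTransp.Basic
import Cfsg.Agent.Lib.ThreeTransp.SymFour

/-!
# The Fischer space of a set of 3-transpositions

Two meeting lines span a copy of the dual affine plane of order two or of the affine plane of
order three.  Written by helper88.
-/

set_option autoImplicit false

namespace Cfsg.Agent.Lib.ThreeTransp.Space

open Cfsg

variable {G : Type*} [Group G] {D : Set G}
  (hS : IsThreeTranspositionSet D) (hc : ∀ g : G, ∀ d ∈ D, g * d * g⁻¹ ∈ D)

/-- The line through two non-commuting points. -/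
def line (D : Set G) (x y : D) : Set D :=
  {z : D | (z : G) = x ∨ (z : G) = y ∨ (z : G) = (x : G) * y * (x : G)}

include hS in
theorem mem_lines_iff (l : Set D) :
    l ∈ threeTranspositionLines D ↔ ∃ x y : D, ¬ Commute (x : G) (y : G) ∧ l = line D x y := by
  have key : ∀ x y : D, ¬ Commute (x : G) (y : G) →
      (y : G) * x * (y : G)⁻¹ = (x : G) * y * x := fun x y h => by
    rw [inv_eq hS y.2, braid hS x.2 y.2 h]
  constructor
  · rintro ⟨x, y, h, rfl⟩
    exact ⟨x, y, h, by simp only [line, key x y h]⟩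
  · rintro ⟨x, y, h, rfl⟩
    exact ⟨x, y, h, by simp only [line, key x y h]⟩

include hS in
theorem line_comm {x y : D} (h : ¬ Commute (x : G) (y : G)) : line D y x = line D x y := by
  ext z
  simp only [line, Set.mem_setOf_eq, braid hS x.2 y.2 h]
  exact or_left_comm

include hS in
/-- Replacing one point of a line by the third one gives the same line. -/
theorem line_third {x y : D} (z : D) (h : ¬ Commute (x : G) (y : G))
    (hz : (z : G) = (x : G) * y * x) : ¬ Commute (x : G) (z : G) ∧ line D x z = line D x y := by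
  refine ⟨hz ▸ not_commute_third hS x.2 y.2 h, ?_⟩
  ext w
  have e : (x : G) * z * x = y := by
    rw [hz]
    simp [mul_assoc, mul_self hS x.2, mul_self_assoc hS x.2]
  simp only [line, Set.mem_setOf_eq, e, ← hz]
  exact or_congr_right Or.comm

include hS in
/-- Any two different points of a line determine it. -/
theorem line_eq {x y p q : D} (h : ¬ Commute (x : G) (y : G)) (hp : p ∈ line D x y)
    (hq : q ∈ line D x y) (hne : p ≠ q) : ¬ Commute (p : G) (q : G) ∧ line D p q = line D x y := by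
  have hne' : (p : G) ≠ q := fun e => hne (Subtype.ext e)
  have hyx : ¬ Commute (y : G) (x : G) := fun c => h c.symm
  rcases hp with hp | hp | hp <;> rcases hq with hq | hq | hq
  · exact absurd (hp.trans hq.symm) hne'
  · obtain rfl := Subtype.ext hp; obtain rfl := Subtype.ext hq; exact ⟨h, rfl⟩
  · obtain rfl := Subtype.ext hp; exact line_third hS q h hq
  · obtain rfl := Subtype.ext hp; obtain rfl := Subtype.ext hq; exact ⟨hyx, line_comm hS h⟩
  · exact absurd (hp.trans hq.symm) hne'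
  · obtain rfl := Subtype.ext hp
    obtain ⟨h1, h2⟩ := line_third hS q hyx (hq.trans (braid hS x.2 p.2 h))
    exact ⟨h1, h2.trans (line_comm hS h)⟩
  · obtain rfl := Subtype.ext hq
    obtain ⟨h1, h2⟩ := line_third hS p h hp
    exact ⟨fun c => h1 c.symm, (line_comm hS h1).trans h2⟩
  · obtain rfl := Subtype.ext hq
    obtain ⟨h1, h2⟩ := line_third hS p hyx (hp.trans (braid hS x.2 q.2 h))
    exact ⟨fun c => h1 c.symm, (line_comm hS h1).trans (h2.trans (line_comm hS h))⟩
  · exact absurd (hp.trans hq.symm) hne'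

include hS hc in
theorem ncard_line {x y : D} (h : ¬ Commute (x : G) (y : G)) : (line D x y).ncard = 3 := by
  let z : D := ⟨(x : G) * y * x, third_mem hS hc x.2 y.2⟩
  have e : line D x y = {x, y, z} := by
    ext w
    simp only [line, Set.mem_setOf_eq, Set.mem_insert_iff, Set.mem_singleton_iff, Subtype.ext_iff, z]
  obtain ⟨h1, -⟩ := line_third hS z h rfl
  have hyz : y ≠ z := fun e => by
    obtain ⟨h2, -⟩ := line_third hS z (show ¬ Commute (y : G) (x : G) from fun c => h c.symm)
      (braid hS x.2 y.2 h)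
    exact h2 (e ▸ Commute.refl (y : G))
  rw [e, Set.ncard_eq_three]
  exact ⟨x, y, z, fun e => h (e ▸ Commute.refl (x : G)), fun e => h1 (e ▸ Commute.refl (x : G)),
    hyz, rfl⟩

include hS in
/-- A configuration of points carrying a model plane is the subspace spanned by two lines. -/
theorem isomorphic_of_model {P : Type*} (M : Set (Set P)) (ψ : P → D)
    (hinj : Function.Injective ψ) (l m : Set D) (hlm : l ∪ m ⊆ Set.range ψ)
    (hgen : ∀ T : Set D, l ∪ m ⊆ T → LineSystem.IsSubspace (threeTranspositionLines D) T →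
      Set.range ψ ⊆ T)
    (hline : ∀ p q : P, ¬ Commute (ψ p : G) (ψ q : G) →
      ∃ s ∈ M, ψ '' s = line D (ψ p) (ψ q))
    (hM : ∀ s ∈ M, ∃ p q : P, ¬ Commute (ψ p : G) (ψ q : G) ∧ ψ '' s = line D (ψ p) (ψ q)) :
    LineSystem.Isomorphic
      (LineSystem.restrict (threeTranspositionLines D)
        (LineSystem.span (threeTranspositionLines D) (l ∪ m))) M := by
  have hsub : LineSystem.IsSubspace (threeTranspositionLines D) (Set.range ψ) := by
    rintro k hk _ ⟨p, rfl⟩ _ ⟨q, rfl⟩ hne hp hq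
    obtain ⟨x, y, h, rfl⟩ := (mem_lines_iff hS k).mp hk
    obtain ⟨h1, h2⟩ := line_eq hS h hp hq hne
    obtain ⟨s, -, hs⟩ := hline p q h1
    rw [← h2, ← hs]
    exact Set.image_subset_range ψ s
  have hspan : LineSystem.span (threeTranspositionLines D) (l ∪ m) = Set.range ψ := by
    refine Set.Subset.antisymm (Set.sInter_subset_of_mem ⟨hlm, hsub⟩) ?_
    refine Set.subset_sInter fun T hT => ?_
    exact hgen T hT.1 hT.2
  rw [hspan]
  let e : ↥(Set.range ψ) ≃ P := (Equiv.ofInjective ψ hinj).symm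
  refine ⟨e, fun n => ?_⟩
  have he : ∀ (z : ↥(Set.range ψ)), ψ (e z) = (z : D) := fun z =>
    congrArg Subtype.val ((Equiv.ofInjective ψ hinj).apply_symm_apply z)
  have hem : ψ '' (e '' n) = Subtype.val '' n := by
    rw [Set.image_image]
    exact Set.image_congr' he
  constructor
  · rintro ⟨k, hk, hks, rfl⟩
    obtain ⟨x, y, h, rfl⟩ := (mem_lines_iff hS k).mp hk
    obtain ⟨p, hp⟩ := hks (show x ∈ line D x y from Or.inl rfl)
    obtain ⟨q, hq⟩ := hks (show y ∈ line D x y from Or.inr (Or.inl rfl))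
    subst hp hq
    obtain ⟨s, hs, hse⟩ := hline p q h
    have hval : Subtype.val '' {z : ↥(Set.range ψ) | (z : D) ∈ line D (ψ p) (ψ q)} =
        line D (ψ p) (ψ q) := by
      ext z
      exact ⟨fun ⟨w, hw, e⟩ => e ▸ hw, fun hz => ⟨⟨z, hks hz⟩, hz, rfl⟩⟩
    have := hem.trans (hval.trans hse.symm)
    exact (Set.image_eq_image hinj).mp this ▸ hs
  · intro hn
    obtain ⟨p, q, h, hpq⟩ := hM _ hn
    refine ⟨line D (ψ p) (ψ q), (mem_lines_iff hS _).mpr ⟨_, _, h, rfl⟩, ?_, ?_⟩
    · rw [← hpq]; exact Set.image_subset_range ψ _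
    · rw [← hpq, hem]
      ext z
      exact ⟨fun hz => ⟨z, hz, rfl⟩, fun ⟨w, hw, e⟩ => Subtype.ext e ▸ hw⟩

include hS hc in
theorem third_mem_subspace {T : Set D} (hT : LineSystem.IsSubspace (threeTranspositionLines D) T)
    {x y z : D} (hx : x ∈ T) (hy : y ∈ T) (h : ¬ Commute (x : G) (y : G))
    (hz : (z : G) = (x : G) * y * x) : z ∈ T := by
  have _ := hc
  exact hT (line D x y) ((mem_lines_iff hS _).mpr ⟨x, y, h, rfl⟩) x hx y hy
    (fun e => h (e ▸ Commute.refl (x : G))) (Or.inl rfl) (Or.inr (Or.inl rfl)) (Or.inr (Or.inr hz))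

/-- The transposition attached to a point of the dual affine plane. -/
def tau (s : DualAffinePoint) : Equiv.Perm (Fin 4) :=
  Equiv.swap (s.val.min' (Finset.card_pos.mp (by rw [s.2]; norm_num)))
    (s.val.max' (Finset.card_pos.mp (by rw [s.2]; norm_num)))

theorem tau_inj : ∀ s t : DualAffinePoint, tau s = tau t → s = t := by decide +kernel

theorem tau_line : ∀ s t : DualAffinePoint, tau s * tau t ≠ tau t * tau s →
    ∃ r : DualAffinePoint, tau r = tau s * tau t * tau s ∧
      ∃ i : Fin 4, ∀ p : DualAffinePoint, i ∉ p.val ↔ p = s ∨ p = t ∨ p = r := by decide +kernel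

theorem tau_exists_line : ∀ i : Fin 4, ∃ s t r : DualAffinePoint, tau s * tau t ≠ tau t * tau s ∧
    tau r = tau s * tau t * tau s ∧ ∀ p : DualAffinePoint, i ∉ p.val ↔ p = s ∨ p = t ∨ p = r := by
  decide +kernel

include hS hc in
/-- The case of a 3-string. -/
theorem dual_plane {x y w : D} (hxy : ¬ Commute (x : G) (y : G)) (hxw : ¬ Commute (x : G) (w : G))
    (hyw : Commute (y : G) (w : G)) (hne : y ≠ w) :
    LineSystem.Isomorphic
      (LineSystem.restrict (threeTranspositionLines D)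
        (LineSystem.span (threeTranspositionLines D) (line D x y ∪ line D x w))) dualAffinePlaneTwo := by
  obtain ⟨φ, h01, h12, h23⟩ := SymFour.exists_hom (y : G) x w (mul_self hS y.2) (mul_self hS x.2)
    (mul_self hS w.2) (braid hS y.2 x.2 fun c => hxy c.symm) (braid hS x.2 w.2 hxw) hyw.eq
  have hφ : Function.Injective φ := SymFour.injective_of_ne (by
    rw [map_mul, h01, h23]
    intro e
    rw [mul_eq_one_iff_eq_inv, inv_eq hS w.2] at e
    exact hne (Subtype.ext e))
  have e02 : φ (Equiv.swap 0 2) = (x : G) * y * x := by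
    rw [show Equiv.swap (0 : Fin 4) 2 = Equiv.swap 1 2 * Equiv.swap 0 1 * Equiv.swap 1 2 from by decide,
      map_mul, map_mul, h01, h12]
  have e13 : φ (Equiv.swap 1 3) = (x : G) * w * x := by
    rw [show Equiv.swap (1 : Fin 4) 3 = Equiv.swap 1 2 * Equiv.swap 2 3 * Equiv.swap 1 2 from by decide,
      map_mul, map_mul, h23, h12]
  have hmem : ∀ s : DualAffinePoint, φ (tau s) ∈ D := by
    intro s
    have : ∃ g : Equiv.Perm (Fin 4), tau s = g * Equiv.swap 0 1 * g⁻¹ := by
      revert s; decide +kernel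
    obtain ⟨g, hg⟩ := this
    rw [hg, map_mul, map_mul, map_inv, h01]
    exact hc _ _ y.2
  let ψ : DualAffinePoint → D := fun s => ⟨φ (tau s), hmem s⟩
  have hncomm : ∀ s t, ¬ Commute (ψ s : G) (ψ t : G) ↔ tau s * tau t ≠ tau t * tau s := fun s t => by
    refine not_congr ⟨fun h => hφ ?_, fun h => ?_⟩
    · rw [map_mul, map_mul]; exact h.eq
    · show φ (tau s) * φ (tau t) = _
      rw [← map_mul, h, map_mul]
  have hlines : ∀ (s t r : DualAffinePoint) (i : Fin 4), tau r = tau s * tau t * tau s →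
      (∀ p : DualAffinePoint, i ∉ p.val ↔ p = s ∨ p = t ∨ p = r) →
      ψ '' {p | i ∉ p.val} = line D (ψ s) (ψ t) := by
    intro s t r i hr hi
    have hr' : (ψ r : G) = (ψ s : G) * ψ t * ψ s := by
      show φ (tau r) = _
      rw [hr, map_mul, map_mul]
    ext z
    constructor
    · rintro ⟨p, hp, rfl⟩
      rcases (hi p).mp hp with rfl | rfl | rfl
      exacts [Or.inl rfl, Or.inr (Or.inl rfl), Or.inr (Or.inr hr')]
    · rintro (hz | hz | hz)
      · exact ⟨s, (hi s).mpr (Or.inl rfl), Subtype.ext hz.symm⟩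
      · exact ⟨t, (hi t).mpr (Or.inr (Or.inl rfl)), Subtype.ext hz.symm⟩
      · exact ⟨r, (hi r).mpr (Or.inr (Or.inr rfl)), Subtype.ext (hr'.trans hz.symm)⟩
  refine isomorphic_of_model hS _ ψ (fun s t h => tau_inj s t (hφ (congrArg Subtype.val h))) _ _ ?_ ?_ ?_ ?_
  · have pts : ∀ (z : D) (σ : Equiv.Perm (Fin 4)), (∃ s, tau s = σ) → (z : G) = φ σ → z ∈ Set.range ψ :=
      fun z σ ⟨s, hs⟩ hz => ⟨s, Subtype.ext (show φ (tau s) = _ by rw [hs, hz])⟩
    rintro z ((hz | hz | hz) | (hz | hz | hz))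
    · exact pts z (Equiv.swap 1 2) (by decide +kernel) (hz.trans h12.symm)
    · exact pts z (Equiv.swap 0 1) (by decide +kernel) (hz.trans h01.symm)
    · exact pts z (Equiv.swap 0 2) (by decide +kernel) (hz.trans e02.symm)
    · exact pts z (Equiv.swap 1 2) (by decide +kernel) (hz.trans h12.symm)
    · exact pts z (Equiv.swap 2 3) (by decide +kernel) (hz.trans h23.symm)
    · exact pts z (Equiv.swap 1 3) (by decide +kernel) (hz.trans e13.symm)
  · intro T hlT hT
    have hx : x ∈ T := hlT (Or.inl (Or.inl rfl))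
    have hy : y ∈ T := hlT (Or.inl (Or.inr (Or.inl rfl)))
    have hw : w ∈ T := hlT (Or.inr (Or.inr (Or.inl rfl)))
    let y' : D := ⟨(x : G) * y * x, third_mem hS hc x.2 y.2⟩
    let w' : D := ⟨(x : G) * w * x, third_mem hS hc x.2 w.2⟩
    have hy' : y' ∈ T := hlT (Or.inl (Or.inr (Or.inr rfl)))
    have hw' : w' ∈ T := hlT (Or.inr (Or.inr (Or.inr rfl)))
    have h023 : ¬ Commute (y' : G) (w : G) := by
      show ¬ Commute ((x : G) * y * x) (w : G)
      rw [← e02, ← h23]
      intro c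
      have := hφ ((map_mul φ _ _).trans (c.eq.trans (map_mul φ _ _).symm))
      revert this
      decide +kernel
    let v : D := ⟨(y' : G) * w * y', third_mem hS hc y'.2 w.2⟩
    have hv : v ∈ T := third_mem_subspace hS hc hT hy' hw h023 rfl
    have e03 : φ (Equiv.swap 0 3) = (v : G) := by
      rw [show Equiv.swap (0 : Fin 4) 3 = Equiv.swap 0 2 * Equiv.swap 2 3 * Equiv.swap 0 2 from by decide,
        map_mul, map_mul, h23, e02]
    rintro _ ⟨s, rfl⟩
    have : tau s = Equiv.swap 0 1 ∨ tau s = Equiv.swap 1 2 ∨ tau s = Equiv.swap 2 3 ∨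
        tau s = Equiv.swap 0 2 ∨ tau s = Equiv.swap 1 3 ∨ tau s = Equiv.swap 0 3 := by
      revert s; decide +kernel
    have conc : ∀ z : D, z ∈ T → φ (tau s) = (z : G) → ψ s ∈ T := fun z hz e =>
      (show ψ s = z from Subtype.ext e) ▸ hz
    rcases this with h | h | h | h | h | h
    · exact conc y hy (by rw [h, h01])
    · exact conc x hx (by rw [h, h12])
    · exact conc w hw (by rw [h, h23])
    · exact conc y' hy' (by rw [h, e02])
    · exact conc w' hw' (by rw [h, e13])
    · exact conc v hv (by rw [h, e03])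
  · intro s t h
    obtain ⟨r, hr, i, hi⟩ := tau_line s t ((hncomm s t).mp h)
    exact ⟨_, ⟨i, rfl⟩, hlines s t r i hr hi⟩
  · rintro _ ⟨i, rfl⟩
    obtain ⟨s, t, r, h, hr, hi⟩ := tau_exists_line i
    exact ⟨s, t, (hncomm s t).mpr h, hlines s t r i hr hi⟩

theorem affine_point_line : ∀ p q : Fin 2 → ZMod 3, p ≠ q → ∀ z : Fin 2 → ZMod 3,
    (∃ c : ZMod 3, z = p + c • (q - p)) ↔ (z = p ∨ z = q ∨ z = -(p + q)) := by decide +kernel

/-- A triple of pairwise collinear points with the third point rule. -/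
def Trip (p q r : G) : Prop := ¬ Commute p q ∧ p * q * p = r

include hS in
theorem trip_all {p q r : D} (h : Trip (p : G) q r) :
    Trip (p : G) q r ∧ Trip (q : G) p r ∧ Trip (p : G) r q ∧ Trip (r : G) p q ∧ Trip (q : G) r p ∧
      Trip (r : G) q p := by
  obtain ⟨h1, h2⟩ := h
  have hqp : ¬ Commute (q : G) (p : G) := fun c => h1 c.symm
  have e : (q : G) * p * q = r := by rw [← braid hS p.2 q.2 h1, h2]
  obtain ⟨hpr, -⟩ := line_third hS r h1 h2.symm
  obtain ⟨hqr, -⟩ := line_third hS r hqp e.symm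
  have hprq : (p : G) * r * p = q := by
    rw [← h2]; simp [mul_assoc, mul_self hS p.2, mul_self_assoc hS p.2]
  have hqrp : (q : G) * r * q = p := by
    rw [← e]; simp [mul_assoc, mul_self hS q.2, mul_self_assoc hS q.2]
  exact ⟨⟨h1, h2⟩, ⟨hqp, e⟩, ⟨hpr, hprq⟩, ⟨fun c => hpr c.symm, (braid hS p.2 r.2 hpr).symm.trans hprq⟩,
    ⟨hqr, hqrp⟩, ⟨fun c => hqr c.symm, (braid hS q.2 r.2 hqr).symm.trans hqrp⟩⟩

include hS in
theorem trip_conj {u p q r p' q' r' : G} (hu : u ∈ D) (h : ¬ Commute p q) (hp : u * p * u = p')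
    (hq : u * q * u = q') (hr : p' * q' * p' = r') : Trip p' q' r' := by
  refine ⟨fun c => h ?_, hr⟩
  have _ := r
  rw [← hp, ← hq] at c
  have := (commute_conj_iff u (a := p) (b := q)).mp
  rw [inv_eq hS hu] at this
  exact this c

include hS hc in
/-- The case without commuting cross pair. -/
theorem affine_plane {x y w : D} (hxy : ¬ Commute (x : G) (y : G)) (hxw : ¬ Commute (x : G) (w : G))
    (hyw : ¬ Commute (y : G) (w : G)) (hyw' : ¬ Commute (y : G) ((x : G) * w * x))
    (hy'w : ¬ Commute ((x : G) * y * x) (w : G))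
    (hy'w' : ¬ Commute ((x : G) * y * x) ((x : G) * w * x)) :
    LineSystem.Isomorphic
      (LineSystem.restrict (threeTranspositionLines D)
        (LineSystem.span (threeTranspositionLines D) (line D x y ∪ line D x w))) affinePlaneThree := by
  let y' : D := ⟨(x : G) * y * x, third_mem hS hc x.2 y.2⟩
  let w' : D := ⟨(x : G) * w * x, third_mem hS hc x.2 w.2⟩
  let p22 : D := ⟨(y : G) * w * y, third_mem hS hc y.2 w.2⟩
  let p21 : D := ⟨(y : G) * w' * y, third_mem hS hc y.2 w'.2⟩
  let p12 : D := ⟨(y' : G) * w * y', third_mem hS hc y'.2 w.2⟩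
  let p11 : D := ⟨(y' : G) * w' * y', third_mem hS hc y'.2 w'.2⟩
  have sx := mul_self_assoc hS x.2
  have sy := mul_self_assoc hS y.2
  have sw := mul_self_assoc hS w.2
  have ey : (y' : G) = y * x * y := braid hS x.2 y.2 hxy
  have ew : (w' : G) = w * x * w := braid hS x.2 w.2 hxw
  have nxy' : ¬ Commute (x : G) (y' : G) := not_commute_third hS x.2 y.2 hxy
  have nxw' : ¬ Commute (x : G) (w' : G) := not_commute_third hS x.2 w.2 hxw
  -- the twelve lines
  have a1 : Trip (x : G) y y' := ⟨hxy, rfl⟩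
  have a2 : Trip (x : G) w w' := ⟨hxw, rfl⟩
  have a3 : Trip (y : G) w p22 := ⟨hyw, rfl⟩
  have a4 : Trip (y : G) w' p21 := ⟨hyw', rfl⟩
  have a5 : Trip (y' : G) w p12 := ⟨hy'w, rfl⟩
  have a6 : Trip (y' : G) w' p11 := ⟨hy'w', rfl⟩
  have a7 : Trip (x : G) p22 p11 := by
    refine trip_conj hS (r := (x : G)) y.2 (show ¬ Commute (y' : G) (w : G) from hy'w) ?_ rfl ?_
    · show (y : G) * y' * y = x
      rw [ey]; simp [mul_assoc, mul_self hS y.2, sy]
    · show (x : G) * (y * w * y) * x = (x * y * x) * (x * w * x) * (x * y * x)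
      simp [mul_assoc, sx]
  have a8 : Trip (x : G) p21 p12 := by
    refine trip_conj hS (r := (x : G)) y.2 (show ¬ Commute (y' : G) (w' : G) from hy'w') ?_ rfl ?_
    · show (y : G) * y' * y = x
      rw [ey]; simp [mul_assoc, mul_self hS y.2, sy]
    · show (x : G) * (y * (x * w * x) * y) * x = (x * y * x) * w * (x * y * x)
      simp [mul_assoc, sx]
  have eyy' : (y' : G) * y * y' = x := by
    rw [show (y' : G) = y * x * y from ey]
    calc (y : G) * x * y * y * (y * x * y) = y * (x * y * x) * y := by simp [mul_assoc, sy]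
      _ = x := by rw [braid hS x.2 y.2 hxy]; simp [mul_assoc, mul_self hS y.2, sy]
  have eww' : (w' : G) * w * w' = x := by
    rw [show (w' : G) = w * x * w from ew]
    calc (w : G) * x * w * w * (w * x * w) = w * (x * w * x) * w := by simp [mul_assoc, sw]
      _ = x := by rw [braid hS x.2 w.2 hxw]; simp [mul_assoc, mul_self hS w.2, sw]
  have a9 : Trip (y : G) p11 p12 := by
    refine trip_conj hS (r := (x : G)) y'.2 nxw' ?_ rfl ?_
    · show (y' : G) * x * y' = y
      rw [braid hS y'.2 x.2 fun c => nxy' c.symm]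
      simp [y', mul_assoc, sx, mul_self hS x.2]
    · show (y : G) * (y' * w' * y') * y = y' * w * y'
      have h1 : (y : G) * y' = x * y := by rw [ey]; simp [mul_assoc, sy]
      have h2 : (y' : G) * y = y * x := by rw [ey]; simp [mul_assoc, mul_self hS y.2]
      calc (y : G) * (y' * w' * y') * y = (y * y') * w' * (y' * y) := by simp [mul_assoc]
        _ = x * y * (x * w * x) * (y * x) := by rw [h1, h2]
        _ = y' * w * y' := by simp [y', mul_assoc]
  have a10 : Trip (y' : G) p22 p21 := by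
    refine trip_conj hS (r := (x : G)) y.2 hxw ?_ rfl ?_
    · show (y : G) * x * y = y'
      rw [ey]
    · show (y' : G) * (y * w * y) * y' = y * w' * y
      have h1 : (y' : G) * y = y * x := by rw [ey]; simp [mul_assoc, mul_self hS y.2]
      have h2 : (y : G) * y' = x * y := by rw [ey]; simp [mul_assoc, sy]
      calc (y' : G) * (y * w * y) * y' = (y' * y) * w * (y * y') := by simp [mul_assoc]
        _ = y * w' * y := by rw [h1, h2]; simp [w', mul_assoc]
  have a11 : Trip (w : G) p11 p21 := by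
    refine trip_conj hS (r := (x : G)) w'.2 nxy' ?_ (braid hS w'.2 y'.2 fun c => hy'w' c.symm) ?_
    · show (w' : G) * x * w' = w
      rw [braid hS w'.2 x.2 fun c => nxw' c.symm]
      simp [w', mul_assoc, sx, mul_self hS x.2]
    · show (w : G) * (y' * w' * y') * w = y * w' * y
      rw [← braid hS w'.2 y'.2 fun c => hy'w' c.symm, braid hS y.2 w'.2 hyw']
      have h1 : (w : G) * w' = x * w := by rw [ew]; simp [mul_assoc, sw]
      have h2 : (w' : G) * w = w * x := by rw [ew]; simp [mul_assoc, mul_self hS w.2]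
      calc (w : G) * (w' * y' * w') * w = (w * w') * y' * (w' * w) := by simp [mul_assoc]
        _ = x * w * (x * y * x) * (w * x) := by rw [h1, h2]
        _ = w' * y * w' := by simp [w', mul_assoc]
  have a12 : Trip (w' : G) p22 p12 := by
    refine trip_conj hS (r := (x : G)) w.2 hxy ?_ (braid hS w.2 y.2 fun c => hyw c.symm) ?_
    · show (w : G) * x * w = w'
      rw [ew]
    · show (w' : G) * (y * w * y) * w' = y' * w * y'
      rw [← braid hS w.2 y.2 fun c => hyw c.symm, braid hS y'.2 w.2 hy'w]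
      have h1 : (w' : G) * w = w * x := by rw [ew]; simp [mul_assoc, mul_self hS w.2]
      have h2 : (w : G) * w' = x * w := by rw [ew]; simp [mul_assoc, sw]
      calc (w' : G) * (w * y * w) * w' = (w' * w) * y * (w * w') := by simp [mul_assoc]
        _ = w * y' * w := by rw [h1, h2]; simp [y', mul_assoc]
  obtain ⟨b1, c1, d1, e1, f1, g1⟩ := trip_all hS a1
  obtain ⟨b2, c2, d2, e2, f2, g2⟩ := trip_all hS a2
  obtain ⟨b3, c3, d3, e3, f3, g3⟩ := trip_all hS a3
  obtain ⟨b4, c4, d4, e4, f4, g4⟩ := trip_all hS a4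
  obtain ⟨b5, c5, d5, e5, f5, g5⟩ := trip_all hS a5
  obtain ⟨b6, c6, d6, e6, f6, g6⟩ := trip_all hS a6
  obtain ⟨b7, c7, d7, e7, f7, g7⟩ := trip_all hS a7
  obtain ⟨b8, c8, d8, e8, f8, g8⟩ := trip_all hS a8
  obtain ⟨b9, c9, d9, e9, f9, g9⟩ := trip_all hS a9
  obtain ⟨b10, c10, d10, e10, f10, g10⟩ := trip_all hS a10
  obtain ⟨b11, c11, d11, e11, f11, g11⟩ := trip_all hS a11
  obtain ⟨b12, c12, d12, e12, f12, g12⟩ := trip_all hS a12
  let idx : (Fin 2 → ZMod 3) → Fin 9 := fun v => ⟨(v 0).val * 3 + (v 1).val, by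
    have h0 := ZMod.val_lt (v 0); have h1 := ZMod.val_lt (v 1); omega⟩
  let pt : Fin 9 → D := ![x, w, w', y, p11, p12, y', p21, p22]
  let thd : Fin 9 → Fin 9 → Fin 9 := fun i j =>
    ⟨((6 - i.val / 3 - j.val / 3) % 3) * 3 + (6 - i.val % 3 - j.val % 3) % 3, by omega⟩
  have hidx : ∀ p q : Fin 2 → ZMod 3, idx (-(p + q)) = thd (idx p) (idx q) := by decide +kernel
  have hidx' : ∀ p q : Fin 2 → ZMod 3, idx p = idx q → p = q := by decide +kernel
  have hidx'' : ∀ i : Fin 9, ∃ p : Fin 2 → ZMod 3, idx p = i := by decide +kernel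
  have hall : ∀ i j : Fin 9, i ≠ j → Trip (pt i : G) (pt j) (pt (thd i j)) := by
    intro i j hij
    fin_cases i <;> fin_cases j <;> first | (exact absurd rfl hij) | assumption
  let ψ : (Fin 2 → ZMod 3) → D := fun v => pt (idx v)
  have hψ : ∀ p q, p ≠ q → Trip (ψ p : G) (ψ q) (ψ (-(p + q))) := fun p q h => by
    show Trip (pt (idx p) : G) (pt (idx q)) (pt (idx (-(p + q))))
    rw [hidx]
    exact hall _ _ fun e => h (hidx' p q e)
  have hlines : ∀ p q, p ≠ q → ψ '' {z | ∃ c : ZMod 3, z = p + c • (q - p)} = line D (ψ p) (ψ q) := by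
    intro p q hpq
    ext z
    constructor
    · rintro ⟨v, hv, rfl⟩
      rcases (affine_point_line p q hpq v).mp hv with rfl | rfl | rfl
      exacts [Or.inl rfl, Or.inr (Or.inl rfl), Or.inr (Or.inr (hψ p q hpq).2.symm)]
    · rintro (hz | hz | hz)
      · exact ⟨p, (affine_point_line p q hpq p).mpr (Or.inl rfl), Subtype.ext hz.symm⟩
      · exact ⟨q, (affine_point_line p q hpq q).mpr (Or.inr (Or.inl rfl)), Subtype.ext hz.symm⟩
      · exact ⟨-(p + q), (affine_point_line p q hpq _).mpr (Or.inr (Or.inr rfl)),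
          Subtype.ext ((hψ p q hpq).2.symm.trans hz.symm)⟩
  have hrange : ∀ i, pt i ∈ Set.range ψ := fun i => by
    obtain ⟨p, hp⟩ := hidx'' i
    exact ⟨p, congrArg pt hp⟩
  refine isomorphic_of_model hS _ ψ ?_ _ _ ?_ ?_ ?_ ?_
  · intro p q h
    by_contra hne
    exact (hψ p q hne).1 (h ▸ Commute.refl (ψ p : G))
  · rintro z ((hz | hz | hz) | (hz | hz | hz))
    · exact (Subtype.ext hz : z = x) ▸ hrange 0
    · exact (Subtype.ext hz : z = y) ▸ hrange 3
    · exact (Subtype.ext hz : z = y') ▸ hrange 6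
    · exact (Subtype.ext hz : z = x) ▸ hrange 0
    · exact (Subtype.ext hz : z = w) ▸ hrange 1
    · exact (Subtype.ext hz : z = w') ▸ hrange 2
  · intro T hlT hT
    have hx : x ∈ T := hlT (Or.inl (Or.inl rfl))
    have hy : y ∈ T := hlT (Or.inl (Or.inr (Or.inl rfl)))
    have hw : w ∈ T := hlT (Or.inr (Or.inr (Or.inl rfl)))
    have hy' : y' ∈ T := hlT (Or.inl (Or.inr (Or.inr rfl)))
    have hw' : w' ∈ T := hlT (Or.inr (Or.inr (Or.inr rfl)))
    have h22 : p22 ∈ T := third_mem_subspace hS hc hT hy hw hyw rfl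
    have h21 : p21 ∈ T := third_mem_subspace hS hc hT hy hw' hyw' rfl
    have h12 : p12 ∈ T := third_mem_subspace hS hc hT hy' hw hy'w rfl
    have h11 : p11 ∈ T := third_mem_subspace hS hc hT hy' hw' hy'w' rfl
    rintro _ ⟨p, rfl⟩
    show pt (idx p) ∈ T
    generalize idx p = i
    fin_cases i <;> assumption
  · intro p q h
    have hpq : p ≠ q := fun e => h (e ▸ Commute.refl (ψ p : G))
    refine ⟨_, ⟨p, q - p, sub_ne_zero.mpr (Ne.symm hpq), rfl⟩, hlines p q hpq⟩
  · rintro _ ⟨v, u, hu, rfl⟩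
    have hne : v ≠ v + u := fun e => hu (by simpa using e)
    refine ⟨v, v + u, (hψ v (v + u) hne).1, ?_⟩
    simpa using hlines v (v + u) hne

include hS hc in
/-- The lines of a set of 3-transpositions form a Fischer space. -/
theorem isFischerSpace : IsFischerSpace (threeTranspositionLines D) := by
  refine ⟨?_, ?_, ?_⟩
  · intro l hl m hm p q hne hpl hql hpm hqm
    obtain ⟨x, y, h, rfl⟩ := (mem_lines_iff hS l).mp hl
    obtain ⟨u, v, h', rfl⟩ := (mem_lines_iff hS m).mp hm
    rw [← (line_eq hS h hpl hql hne).2, (line_eq hS h' hpm hqm hne).2]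
  · intro l hl
    obtain ⟨x, y, h, rfl⟩ := (mem_lines_iff hS l).mp hl
    exact ncard_line hS hc h
  intro l hl m hm hne ⟨x, hxl, hxm⟩
  obtain ⟨a, b, h, rfl⟩ := (mem_lines_iff hS l).mp hl
  obtain ⟨u, v, h', rfl⟩ := (mem_lines_iff hS m).mp hm
  obtain ⟨y, hy, hyx⟩ : ∃ y ∈ line D a b, y ≠ x := by
    by_cases e : a = x
    · exact ⟨b, Or.inr (Or.inl rfl), fun e' => h (by rw [e, e'])⟩
    · exact ⟨a, Or.inl rfl, e⟩
  obtain ⟨w, hw, hwx⟩ : ∃ w ∈ line D u v, w ≠ x := by
    by_cases e : u = x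
    · exact ⟨v, Or.inr (Or.inl rfl), fun e' => h' (by rw [e, e'])⟩
    · exact ⟨u, Or.inl rfl, e⟩
  obtain ⟨hxy, hl'⟩ := line_eq hS h hxl hy (Ne.symm hyx)
  obtain ⟨hxw, hm'⟩ := line_eq hS h' hxm hw (Ne.symm hwx)
  rw [← hl', ← hm'] at hne ⊢
  let y' : D := ⟨(x : G) * y * x, third_mem hS hc x.2 y.2⟩
  let w' : D := ⟨(x : G) * w * x, third_mem hS hc x.2 w.2⟩
  obtain ⟨hxy', hly'⟩ := line_third hS y' hxy rfl
  obtain ⟨hxw', hlw'⟩ := line_third hS w' hxw rfl
  have hdiff : ∀ p q : D, ¬ Commute (x : G) (p : G) → line D x p = line D x y →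
      line D x q = line D x w → p ≠ q := fun p q _ hp hq e => hne (by rw [← hp, ← hq, e])
  by_cases c1 : Commute (y : G) (w : G)
  · exact Or.inl (dual_plane hS hc hxy hxw c1 (hdiff y w hxy rfl rfl))
  by_cases c2 : Commute (y : G) (w' : G)
  · rw [← hlw']; exact Or.inl (dual_plane hS hc hxy hxw' c2 (hdiff y w' hxy rfl hlw'))
  by_cases c3 : Commute (y' : G) (w : G)
  · rw [← hly']; exact Or.inl (dual_plane hS hc hxy' hxw c3 (hdiff y' w hxy' hly' rfl))
  by_cases c4 : Commute (y' : G) (w' : G)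
  · rw [← hly', ← hlw']; exact Or.inl (dual_plane hS hc hxy' hxw' c4 (hdiff y' w' hxy' hly' hlw'))
  exact Or.inr (affine_plane hS hc hxy hxw c1 c2 c3 c4)

end Cfsg.Agent.Lib.ThreeTransp.Space
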